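import Cfsg.Agent.Lib.H64.TCMCB.Data
import Cfsg.Agent.Lib.H35.TCIdx
set_option autoImplicit false
set_option maxRecDepth 100000
set_option linter.all false
namespace H64.TCMCB
open H35.TC
/-- letters -/
inductive Lt | p | pi | q | qi | r | ri | s | si | u
  deriving DecidableEq
/-- inverse letter -/
def inv : Lt → Lt
  | .p => .pi
  | .pi => .p
  | .q => .qi
  | .qi => .q
  | .r => .ri
  | .ri => .r
  | .s => .si
  | .si => .s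
  | .u => .u
/-- table functions -/
noncomputable def T : Lt → ℕ → ℕ
  | .p => T_p
  | .pi => T_pi
  | .q => T_q
  | .qi => T_qi
  | .r => T_r
  | .ri => T_ri
  | .s => T_s
  | .si => T_si
  | .u => T_u
/-- decoding of letter codes -/
def lt : ℕ → Lt
  | 0 => .p
  | 1 => .pi
  | 2 => .q
  | 3 => .qi
  | 4 => .r
  | 5 => .ri
  | 6 => .s
  | 7 => .si
  | _ => .u
/-- Coxeter matrix (0: no relation) -/
def mm : Lt → Lt → ℕ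
  | .u, .u => 1
  | _, _ => 0
/-- extra relators `w ^ n` -/
def extra : List (List Lt × ℕ) := [
  ([.q], 5),
  ([.q, .si], 3),
  ([.p, .ri, .q, .q, .s, .q, .si], 1),
  ([.p, .ri, .q, .si, .qi, .si, .si], 1),
  ([.p, .p, .qi, .s, .qi, .p, .p, .ri], 1),
  ([.p, .p, .qi, .r, .pi, .pi, .qi, .r], 1),
  ([.p, .p, .ri, .q], 2),
  ([.p, .qi, .p, .s, .qi, .ri, .s, .ri], 1),
  ([.p, .ri, .qi, .qi], 2),
  ([.u, .r, .s, .pi, .si, .qi, .ri, .u, .qi, .ri, .q, .p, .q], 1),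
  ([.u, .si, .pi, .u, .p, .s, .u, .r, .p, .ri, .s, .s, .ri], 1),
  ([.u, .q, .u, .qi, .u, .q, .s, .s, .p, .r, .p, .si, .qi], 1),
  ([.u, .p, .u, .q, .u, .qi, .u, .pi, .u, .p, .p, .ri, .q], 1),
  ([.u, .s, .q, .pi, .u, .qi, .p, .p, .q, .r, .s, .pi, .pi, .q], 1),
  ([.p, .pi], 1),
  ([.pi, .p], 1),
  ([.q, .qi], 1),
  ([.qi, .q], 1),
  ([.r, .ri], 1),
  ([.ri, .r], 1),
  ([.s, .si], 1),
  ([.si, .s], 1)]
/-- relators -/
def rels : List (List Lt) := mkRels [(.u, .u)] mm extra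
/-- subgroup words -/
def subs : List (List Lt) := [
  [.p],
  [.q],
  [.r],
  [.s]]
noncomputable def dp_p_0 (j u : ℕ) : Bool :=
  Bool.rec (motive := fun _ => Bool) (lF [T_ri, T_q, T_q, T_s, T_q, T_si] M (Nat.sub (T_p u) (Nat.mod (T_p u) M)) (Nat.mod (T_p u) M) u) (lS MG [T_p, T_qi, T_s, T_qi, T_p, T_p, T_ri] M (Nat.sub (T_p u) (Nat.mod (T_p u) M)) (nat_lit 40) (Nat.mod (T_p u) M) u) (Nat.ble (nat_lit 6) j)
noncomputable def dp_p_1 (j u : ℕ) : Bool :=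
  Bool.rec (motive := fun _ => Bool) (lS MG [T_ri, T_q, T_q, T_s, T_q, T_si] M (Nat.sub (T_p u) (Nat.mod (T_p u) M)) (nat_lit 40) (Nat.mod (T_p u) M) u) (dp_p_0 j u) (Nat.ble (nat_lit 5) j)
noncomputable def dp_p_2 (j u : ℕ) : Bool :=
  Bool.rec (motive := fun _ => Bool) (lS MG [T_p, T_qi, T_r, T_pi, T_pi, T_qi, T_r] M (Nat.sub (T_p u) (Nat.mod (T_p u) M)) (nat_lit 40) (Nat.mod (T_p u) M) u) (lS MG [T_s, T_qi, T_ri, T_s, T_ri, T_p, T_qi] M (Nat.sub (T_p u) (Nat.mod (T_p u) M)) (nat_lit 40) (Nat.mod (T_p u) M) u) (Nat.ble (nat_lit 8) j)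
noncomputable def dp_p_3 (j u : ℕ) : Bool :=
  Bool.rec (motive := fun _ => Bool) (lF [T_ri, T_q, T_si, T_qi, T_si, T_si] M (Nat.sub (T_p u) (Nat.mod (T_p u) M)) (Nat.mod (T_p u) M) u) (lF [T_qi, T_s, T_qi, T_p, T_p, T_ri, T_p] M (Nat.sub (T_p u) (Nat.mod (T_p u) M)) (Nat.mod (T_p u) M) u) (Nat.ble (nat_lit 11) j)
noncomputable def dp_p_4 (j u : ℕ) : Bool :=
  Bool.rec (motive := fun _ => Bool) (lS MG [T_qi, T_s, T_qi, T_p, T_p, T_ri, T_p] M (Nat.sub (T_p u) (Nat.mod (T_p u) M)) (nat_lit 40) (Nat.mod (T_p u) M) u) (dp_p_3 j u) (Nat.ble (nat_lit 10) j)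
noncomputable def dp_p_5 (j u : ℕ) : Bool :=
  Bool.rec (motive := fun _ => Bool) (dp_p_2 j u) (dp_p_4 j u) (Nat.ble (nat_lit 9) j)
noncomputable def dp_p_6 (j u : ℕ) : Bool :=
  Bool.rec (motive := fun _ => Bool) (dp_p_1 j u) (dp_p_5 j u) (Nat.ble (nat_lit 7) j)
noncomputable def dp_p_7 (j u : ℕ) : Bool :=
  Bool.rec (motive := fun _ => Bool) (lS MG [T_ri, T_q, T_p, T_p, T_ri, T_q, T_p] M (Nat.sub (T_p u) (Nat.mod (T_p u) M)) (nat_lit 40) (Nat.mod (T_p u) M) u) (lF [T_p, T_qi, T_s, T_qi, T_p, T_p, T_ri] M (Nat.sub (T_p u) (Nat.mod (T_p u) M)) (Nat.mod (T_p u) M) u) (Nat.ble (nat_lit 14) j)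
noncomputable def dp_p_8 (j u : ℕ) : Bool :=
  Bool.rec (motive := fun _ => Bool) (lS MG [T_ri, T_q, T_si, T_qi, T_si, T_si] M (Nat.sub (T_p u) (Nat.mod (T_p u) M)) (nat_lit 40) (Nat.mod (T_p u) M) u) (dp_p_7 j u) (Nat.ble (nat_lit 13) j)
noncomputable def dp_p_9 (j u : ℕ) : Bool :=
  Bool.rec (motive := fun _ => Bool) (lS MG [T_p, T_ri, T_p, T_p, T_qi, T_s, T_qi] M (Nat.sub (T_p u) (Nat.mod (T_p u) M)) (nat_lit 40) (Nat.mod (T_p u) M) u) (lS MG [T_s, T_u, T_r, T_p, T_ri, T_s, T_s, T_ri, T_u, T_si, T_pi, T_u] M (Nat.sub (T_p u) (Nat.mod (T_p u) M)) (nat_lit 40) (Nat.mod (T_p u) M) u) (Nat.ble (nat_lit 16) j)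
noncomputable def dp_p_10 (j u : ℕ) : Bool :=
  Bool.rec (motive := fun _ => Bool) (lS MG [T_qi, T_r, T_pi, T_pi, T_qi, T_r, T_p] M (Nat.sub (T_p u) (Nat.mod (T_p u) M)) (nat_lit 40) (Nat.mod (T_p u) M) u) (lF [T_s, T_qi, T_ri, T_s, T_ri, T_p, T_qi] M (Nat.sub (T_p u) (Nat.mod (T_p u) M)) (Nat.mod (T_p u) M) u) (Nat.ble (nat_lit 19) j)
noncomputable def dp_p_11 (j u : ℕ) : Bool :=
  Bool.rec (motive := fun _ => Bool) (lS MG [T_ri, T_q, T_u, T_p, T_u, T_q, T_u, T_qi, T_u, T_pi, T_u, T_p] M (Nat.sub (T_p u) (Nat.mod (T_p u) M)) (nat_lit 40) (Nat.mod (T_p u) M) u) (dp_p_10 j u) (Nat.ble (nat_lit 18) j)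
noncomputable def dp_p_12 (j u : ℕ) : Bool :=
  Bool.rec (motive := fun _ => Bool) (dp_p_9 j u) (dp_p_11 j u) (Nat.ble (nat_lit 17) j)
noncomputable def dp_p_13 (j u : ℕ) : Bool :=
  Bool.rec (motive := fun _ => Bool) (dp_p_8 j u) (dp_p_12 j u) (Nat.ble (nat_lit 15) j)
noncomputable def dp_p_14 (j u : ℕ) : Bool :=
  Bool.rec (motive := fun _ => Bool) (lS MG [T_ri, T_qi, T_qi, T_p, T_ri, T_qi, T_qi] M (Nat.sub (T_p u) (Nat.mod (T_p u) M)) (nat_lit 40) (Nat.mod (T_p u) M) u) (lF [T_qi, T_p, T_s, T_qi, T_ri, T_s, T_ri] M (Nat.sub (T_p u) (Nat.mod (T_p u) M)) (Nat.mod (T_p u) M) u) (Nat.ble (nat_lit 22) j)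
noncomputable def dp_p_15 (j u : ℕ) : Bool :=
  Bool.rec (motive := fun _ => Bool) (lS MG [T_s, T_u, T_r, T_si, T_si, T_r, T_pi, T_ri, T_u, T_si, T_pi, T_u] M (Nat.sub (T_p u) (Nat.mod (T_p u) M)) (nat_lit 40) (Nat.mod (T_p u) M) u) (dp_p_14 j u) (Nat.ble (nat_lit 21) j)
noncomputable def dp_p_16 (j u : ℕ) : Bool :=
  Bool.rec (motive := fun _ => Bool) (lF [T_p, T_ri, T_q, T_pi, T_pi, T_ri, T_q] M (Nat.sub (T_p u) (Nat.mod (T_p u) M)) (Nat.mod (T_p u) M) u) (lS MG [T_qi, T_p, T_s, T_qi, T_ri, T_s, T_ri] M (Nat.sub (T_p u) (Nat.mod (T_p u) M)) (nat_lit 40) (Nat.mod (T_p u) M) u) (Nat.ble (nat_lit 24) j)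
noncomputable def dp_p_17 (j u : ℕ) : Bool :=
  Bool.rec (motive := fun _ => Bool) (lF [T_ri, T_p, T_p, T_qi, T_s, T_qi, T_p] M (Nat.sub (T_p u) (Nat.mod (T_p u) M)) (Nat.mod (T_p u) M) u) (lS MG [T_ri, T_p, T_p, T_qi, T_s, T_qi, T_p] M (Nat.sub (T_p u) (Nat.mod (T_p u) M)) (nat_lit 40) (Nat.mod (T_p u) M) u) (Nat.ble (nat_lit 26) j)
noncomputable def dp_p_18 (j u : ℕ) : Bool :=
  Bool.rec (motive := fun _ => Bool) (dp_p_16 j u) (dp_p_17 j u) (Nat.ble (nat_lit 25) j)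
noncomputable def dp_p_19 (j u : ℕ) : Bool :=
  Bool.rec (motive := fun _ => Bool) (dp_p_15 j u) (dp_p_18 j u) (Nat.ble (nat_lit 23) j)
noncomputable def dp_p_20 (j u : ℕ) : Bool :=
  Bool.rec (motive := fun _ => Bool) (lF [T_ri, T_q, T_p, T_p, T_ri, T_q, T_p] M (Nat.sub (T_p u) (Nat.mod (T_p u) M)) (Nat.mod (T_p u) M) u) (lF [T_ri, T_qi, T_qi, T_p, T_ri, T_qi, T_qi] M (Nat.sub (T_p u) (Nat.mod (T_p u) M)) (Nat.mod (T_p u) M) u) (Nat.ble (nat_lit 28) j)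
noncomputable def dp_p_21 (j u : ℕ) : Bool :=
  Bool.rec (motive := fun _ => Bool) (lF [T_qi, T_r, T_pi, T_pi, T_qi, T_r, T_p] M (Nat.sub (T_p u) (Nat.mod (T_p u) M)) (Nat.mod (T_p u) M) u) (lH [] [] M (Nat.sub (T_p u) (Nat.mod (T_p u) M)) (Nat.mod (T_p u) M) u) (Nat.ble (nat_lit 31) j)
noncomputable def dp_p_22 (j u : ℕ) : Bool :=
  Bool.rec (motive := fun _ => Bool) (lS MG [T_p, T_ri, T_q, T_pi, T_pi, T_ri, T_q] M (Nat.sub (T_p u) (Nat.mod (T_p u) M)) (nat_lit 40) (Nat.mod (T_p u) M) u) (dp_p_21 j u) (Nat.ble (nat_lit 30) j)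
noncomputable def dp_p_23 (j u : ℕ) : Bool :=
  Bool.rec (motive := fun _ => Bool) (dp_p_20 j u) (dp_p_22 j u) (Nat.ble (nat_lit 29) j)
noncomputable def dp_p_24 (j u : ℕ) : Bool :=
  Bool.rec (motive := fun _ => Bool) (lF [T_p, T_ri, T_p, T_p, T_qi, T_s, T_qi] M (Nat.sub (T_p u) (Nat.mod (T_p u) M)) (Nat.mod (T_p u) M) u) (lS MG [T_ri, T_q, T_pi, T_pi, T_ri, T_q, T_p] M (Nat.sub (T_p u) (Nat.mod (T_p u) M)) (nat_lit 40) (Nat.mod (T_p u) M) u) (Nat.ble (nat_lit 33) j)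
noncomputable def dp_p_25 (j u : ℕ) : Bool :=
  Bool.rec (motive := fun _ => Bool) (lF [T_p, T_ri, T_q, T_u, T_p, T_u, T_q, T_u, T_qi, T_u, T_pi, T_u] M (Nat.sub (T_p u) (Nat.mod (T_p u) M)) (Nat.mod (T_p u) M) u) (lS MG [T_p, T_ri, T_q, T_u, T_p, T_u, T_q, T_u, T_qi, T_u, T_pi, T_u] M (Nat.sub (T_p u) (Nat.mod (T_p u) M)) (nat_lit 40) (Nat.mod (T_p u) M) u) (Nat.ble (nat_lit 36) j)
noncomputable def dp_p_26 (j u : ℕ) : Bool :=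
  Bool.rec (motive := fun _ => Bool) (lF [T_ri, T_q, T_pi, T_pi, T_ri, T_q, T_p] M (Nat.sub (T_p u) (Nat.mod (T_p u) M)) (Nat.mod (T_p u) M) u) (dp_p_25 j u) (Nat.ble (nat_lit 35) j)
noncomputable def dp_p_27 (j u : ℕ) : Bool :=
  Bool.rec (motive := fun _ => Bool) (dp_p_24 j u) (dp_p_26 j u) (Nat.ble (nat_lit 34) j)
noncomputable def dp_p_28 (j u : ℕ) : Bool :=
  Bool.rec (motive := fun _ => Bool) (lF [T_p, T_qi, T_r, T_pi, T_pi, T_qi, T_r] M (Nat.sub (T_p u) (Nat.mod (T_p u) M)) (Nat.mod (T_p u) M) u) (lF [T_p, T_ri, T_q, T_p, T_p, T_ri, T_q] M (Nat.sub (T_p u) (Nat.mod (T_p u) M)) (Nat.mod (T_p u) M) u) (Nat.ble (nat_lit 38) j)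
noncomputable def dp_p_29 (j u : ℕ) : Bool :=
  Bool.rec (motive := fun _ => Bool) (lF [T_u, T_q, T_u, T_qi, T_u, T_pi, T_u, T_p, T_p, T_ri, T_q, T_u] M (Nat.sub (T_p u) (Nat.mod (T_p u) M)) (Nat.mod (T_p u) M) u) (lS MG [T_p, T_ri, T_q, T_p, T_p, T_ri, T_q] M (Nat.sub (T_p u) (Nat.mod (T_p u) M)) (nat_lit 40) (Nat.mod (T_p u) M) u) (Nat.ble (nat_lit 41) j)
noncomputable def dp_p_30 (j u : ℕ) : Bool :=
  Bool.rec (motive := fun _ => Bool) (lS MG [T_u, T_q, T_u, T_qi, T_u, T_pi, T_u, T_p, T_p, T_ri, T_q, T_u] M (Nat.sub (T_p u) (Nat.mod (T_p u) M)) (nat_lit 40) (Nat.mod (T_p u) M) u) (dp_p_29 j u) (Nat.ble (nat_lit 40) j)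
noncomputable def dp_p_31 (j u : ℕ) : Bool :=
  Bool.rec (motive := fun _ => Bool) (dp_p_28 j u) (dp_p_30 j u) (Nat.ble (nat_lit 39) j)
noncomputable def dp_p_32 (j u : ℕ) : Bool :=
  Bool.rec (motive := fun _ => Bool) (dp_p_27 j u) (dp_p_31 j u) (Nat.ble (nat_lit 37) j)
noncomputable def dp_p_33 (j u : ℕ) : Bool :=
  Bool.rec (motive := fun _ => Bool) (dp_p_23 j u) (dp_p_32 j u) (Nat.ble (nat_lit 32) j)
noncomputable def dp_p_34 (j u : ℕ) : Bool :=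
  Bool.rec (motive := fun _ => Bool) (dp_p_19 j u) (dp_p_33 j u) (Nat.ble (nat_lit 27) j)
noncomputable def dp_p_35 (j u : ℕ) : Bool :=
  Bool.rec (motive := fun _ => Bool) (dp_p_13 j u) (dp_p_34 j u) (Nat.ble (nat_lit 20) j)
noncomputable def dp_p_36 (j u : ℕ) : Bool :=
  Bool.rec (motive := fun _ => Bool) (dp_p_6 j u) (dp_p_35 j u) (Nat.ble (nat_lit 12) j)
noncomputable def dp_p_37 (j u : ℕ) : Bool :=
  Bool.rec (motive := fun _ => Bool) (lF1 T_pi M (Nat.sub (T_p u) (Nat.mod (T_p u) M)) (Nat.mod (T_p u) M) u) (dp_p_36 j u) (Nat.ble (nat_lit 4) j)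
noncomputable def disp_p (j u : ℕ) : Bool :=
  Bool.rec (motive := fun _ => Bool) (Bool.rec (motive := fun _ => Bool) (lDef P (nat_lit 0) (Nat.mod (T_p u) M) u) (lDef P (nat_lit 1) u (Nat.mod (T_p u) M)) (Nat.ble (nat_lit 1) j)) (Bool.rec (motive := fun _ => Bool) (lS MG [T_pi] M (Nat.sub (T_p u) (Nat.mod (T_p u) M)) (nat_lit 40) (Nat.mod (T_p u) M) u) (dp_p_37 j u) (Nat.ble (nat_lit 3) j)) (Nat.ble (nat_lit 2) j)
noncomputable def chk_p (j u : ℕ) : Bool :=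
  Bool.rec (motive := fun _ => Bool) (disp_p j u) (Nat.ble (Nat.succ (MG u)) A) (Nat.ble A (T_p u))
noncomputable def dp_pi_0 (j u : ℕ) : Bool :=
  Bool.rec (motive := fun _ => Bool) (lF [T_s, T_qi, T_si, T_qi, T_qi, T_r] M (Nat.sub (T_pi u) (Nat.mod (T_pi u) M)) (Nat.mod (T_pi u) M) u) (lS MG [T_u, T_p, T_s, T_u, T_r, T_p, T_ri, T_s, T_s, T_ri, T_u, T_si] M (Nat.sub (T_pi u) (Nat.mod (T_pi u) M)) (nat_lit 40) (Nat.mod (T_pi u) M) u) (Nat.ble (nat_lit 6) j)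
noncomputable def dp_pi_1 (j u : ℕ) : Bool :=
  Bool.rec (motive := fun _ => Bool) (lS MG [T_s, T_qi, T_si, T_qi, T_qi, T_r] M (Nat.sub (T_pi u) (Nat.mod (T_pi u) M)) (nat_lit 40) (Nat.mod (T_pi u) M) u) (dp_pi_0 j u) (Nat.ble (nat_lit 5) j)
noncomputable def dp_pi_2 (j u : ℕ) : Bool :=
  Bool.rec (motive := fun _ => Bool) (lS MG [T_q, T_pi, T_r, T_si, T_r, T_q, T_si] M (Nat.sub (T_pi u) (Nat.mod (T_pi u) M)) (nat_lit 40) (Nat.mod (T_pi u) M) u) (lS MG [T_r, T_si, T_r, T_q, T_si, T_pi, T_q] M (Nat.sub (T_pi u) (Nat.mod (T_pi u) M)) (nat_lit 40) (Nat.mod (T_pi u) M) u) (Nat.ble (nat_lit 9) j)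
noncomputable def dp_pi_3 (j u : ℕ) : Bool :=
  Bool.rec (motive := fun _ => Bool) (lF [T_r, T_pi, T_pi, T_q, T_si, T_q, T_pi] M (Nat.sub (T_pi u) (Nat.mod (T_pi u) M)) (Nat.mod (T_pi u) M) u) (dp_pi_2 j u) (Nat.ble (nat_lit 8) j)
noncomputable def dp_pi_4 (j u : ℕ) : Bool :=
  Bool.rec (motive := fun _ => Bool) (lS MG [T_ri, T_q, T_p, T_p, T_ri, T_q, T_pi] M (Nat.sub (T_pi u) (Nat.mod (T_pi u) M)) (nat_lit 40) (Nat.mod (T_pi u) M) u) (lF [T_qi, T_r, T_pi, T_pi, T_qi, T_r, T_pi] M (Nat.sub (T_pi u) (Nat.mod (T_pi u) M)) (Nat.mod (T_pi u) M) u) (Nat.ble (nat_lit 12) j)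
noncomputable def dp_pi_5 (j u : ℕ) : Bool :=
  Bool.rec (motive := fun _ => Bool) (lF [T_ri, T_q, T_p, T_p, T_ri, T_q, T_pi] M (Nat.sub (T_pi u) (Nat.mod (T_pi u) M)) (Nat.mod (T_pi u) M) u) (dp_pi_4 j u) (Nat.ble (nat_lit 11) j)
noncomputable def dp_pi_6 (j u : ℕ) : Bool :=
  Bool.rec (motive := fun _ => Bool) (dp_pi_3 j u) (dp_pi_5 j u) (Nat.ble (nat_lit 10) j)
noncomputable def dp_pi_7 (j u : ℕ) : Bool :=
  Bool.rec (motive := fun _ => Bool) (dp_pi_1 j u) (dp_pi_6 j u) (Nat.ble (nat_lit 7) j)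
noncomputable def dp_pi_8 (j u : ℕ) : Bool :=
  Bool.rec (motive := fun _ => Bool) (lF [T_q, T_si, T_q, T_pi, T_pi, T_r, T_pi] M (Nat.sub (T_pi u) (Nat.mod (T_pi u) M)) (Nat.mod (T_pi u) M) u) (lS MG [T_qi, T_r, T_p, T_p, T_qi, T_r, T_pi] M (Nat.sub (T_pi u) (Nat.mod (T_pi u) M)) (nat_lit 40) (Nat.mod (T_pi u) M) u) (Nat.ble (nat_lit 14) j)
noncomputable def dp_pi_9 (j u : ℕ) : Bool :=
  Bool.rec (motive := fun _ => Bool) (lS MG [T_pi, T_r, T_pi, T_pi, T_q, T_si, T_q] M (Nat.sub (T_pi u) (Nat.mod (T_pi u) M)) (nat_lit 40) (Nat.mod (T_pi u) M) u) (lF [T_q, T_q, T_r, T_pi, T_q, T_q, T_r] M (Nat.sub (T_pi u) (Nat.mod (T_pi u) M)) (Nat.mod (T_pi u) M) u) (Nat.ble (nat_lit 16) j)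
noncomputable def dp_pi_10 (j u : ℕ) : Bool :=
  Bool.rec (motive := fun _ => Bool) (dp_pi_8 j u) (dp_pi_9 j u) (Nat.ble (nat_lit 15) j)
noncomputable def dp_pi_11 (j u : ℕ) : Bool :=
  Bool.rec (motive := fun _ => Bool) (lF [T_pi, T_ri, T_q, T_p, T_p, T_ri, T_q] M (Nat.sub (T_pi u) (Nat.mod (T_pi u) M)) (Nat.mod (T_pi u) M) u) (lS MG [T_pi, T_ri, T_q, T_p, T_p, T_ri, T_q] M (Nat.sub (T_pi u) (Nat.mod (T_pi u) M)) (nat_lit 40) (Nat.mod (T_pi u) M) u) (Nat.ble (nat_lit 18) j)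
noncomputable def dp_pi_12 (j u : ℕ) : Bool :=
  Bool.rec (motive := fun _ => Bool) (lS MG [T_r, T_pi, T_pi, T_q, T_si, T_q, T_pi] M (Nat.sub (T_pi u) (Nat.mod (T_pi u) M)) (nat_lit 40) (Nat.mod (T_pi u) M) u) (lS MG [T_pi, T_u, T_p, T_u, T_q, T_u, T_qi, T_u, T_pi, T_u, T_qi, T_r] M (Nat.sub (T_pi u) (Nat.mod (T_pi u) M)) (nat_lit 40) (Nat.mod (T_pi u) M) u) (Nat.ble (nat_lit 20) j)
noncomputable def dp_pi_13 (j u : ℕ) : Bool :=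
  Bool.rec (motive := fun _ => Bool) (dp_pi_11 j u) (dp_pi_12 j u) (Nat.ble (nat_lit 19) j)
noncomputable def dp_pi_14 (j u : ℕ) : Bool :=
  Bool.rec (motive := fun _ => Bool) (dp_pi_10 j u) (dp_pi_13 j u) (Nat.ble (nat_lit 17) j)
noncomputable def dp_pi_15 (j u : ℕ) : Bool :=
  Bool.rec (motive := fun _ => Bool) (lS MG [T_pi, T_q, T_si, T_q, T_pi, T_pi, T_r] M (Nat.sub (T_pi u) (Nat.mod (T_pi u) M)) (nat_lit 40) (Nat.mod (T_pi u) M) u) (lS MG [T_s, T_s, T_q, T_s, T_qi, T_r] M (Nat.sub (T_pi u) (Nat.mod (T_pi u) M)) (nat_lit 40) (Nat.mod (T_pi u) M) u) (Nat.ble (nat_lit 22) j)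
noncomputable def dp_pi_16 (j u : ℕ) : Bool :=
  Bool.rec (motive := fun _ => Bool) (lF [T_pi, T_r, T_pi, T_pi, T_q, T_si, T_q] M (Nat.sub (T_pi u) (Nat.mod (T_pi u) M)) (Nat.mod (T_pi u) M) u) (lS MG [T_q, T_si, T_q, T_pi, T_pi, T_r, T_pi] M (Nat.sub (T_pi u) (Nat.mod (T_pi u) M)) (nat_lit 40) (Nat.mod (T_pi u) M) u) (Nat.ble (nat_lit 25) j)
noncomputable def dp_pi_17 (j u : ℕ) : Bool :=
  Bool.rec (motive := fun _ => Bool) (lF [T_q, T_pi, T_r, T_si, T_r, T_q, T_si] M (Nat.sub (T_pi u) (Nat.mod (T_pi u) M)) (Nat.mod (T_pi u) M) u) (dp_pi_16 j u) (Nat.ble (nat_lit 24) j)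
noncomputable def dp_pi_18 (j u : ℕ) : Bool :=
  Bool.rec (motive := fun _ => Bool) (dp_pi_15 j u) (dp_pi_17 j u) (Nat.ble (nat_lit 23) j)
noncomputable def dp_pi_19 (j u : ℕ) : Bool :=
  Bool.rec (motive := fun _ => Bool) (lS MG [T_pi, T_qi, T_r, T_p, T_p, T_qi, T_r] M (Nat.sub (T_pi u) (Nat.mod (T_pi u) M)) (nat_lit 40) (Nat.mod (T_pi u) M) u) (lF [T_r, T_si, T_r, T_q, T_si, T_pi, T_q] M (Nat.sub (T_pi u) (Nat.mod (T_pi u) M)) (Nat.mod (T_pi u) M) u) (Nat.ble (nat_lit 27) j)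
noncomputable def dp_pi_20 (j u : ℕ) : Bool :=
  Bool.rec (motive := fun _ => Bool) (lS MG [T_pi, T_qi, T_r, T_pi, T_pi, T_qi, T_r] M (Nat.sub (T_pi u) (Nat.mod (T_pi u) M)) (nat_lit 40) (Nat.mod (T_pi u) M) u) (lF [T_qi, T_r, T_p, T_p, T_qi, T_r, T_pi] M (Nat.sub (T_pi u) (Nat.mod (T_pi u) M)) (Nat.mod (T_pi u) M) u) (Nat.ble (nat_lit 29) j)
noncomputable def dp_pi_21 (j u : ℕ) : Bool :=
  Bool.rec (motive := fun _ => Bool) (dp_pi_19 j u) (dp_pi_20 j u) (Nat.ble (nat_lit 28) j)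
noncomputable def dp_pi_22 (j u : ℕ) : Bool :=
  Bool.rec (motive := fun _ => Bool) (lF [T_si, T_qi, T_ri, T_u, T_qi, T_ri, T_q, T_p, T_q, T_u, T_r, T_s] M (Nat.sub (T_pi u) (Nat.mod (T_pi u) M)) (Nat.mod (T_pi u) M) u) (lF [T_pi, T_qi, T_r, T_p, T_p, T_qi, T_r] M (Nat.sub (T_pi u) (Nat.mod (T_pi u) M)) (Nat.mod (T_pi u) M) u) (Nat.ble (nat_lit 32) j)
noncomputable def dp_pi_23 (j u : ℕ) : Bool :=
  Bool.rec (motive := fun _ => Bool) (lS MG [T_u, T_p, T_p, T_ri, T_q, T_u, T_p, T_u, T_q, T_u, T_qi, T_u] M (Nat.sub (T_pi u) (Nat.mod (T_pi u) M)) (nat_lit 40) (Nat.mod (T_pi u) M) u) (dp_pi_22 j u) (Nat.ble (nat_lit 31) j)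
noncomputable def dp_pi_24 (j u : ℕ) : Bool :=
  Bool.rec (motive := fun _ => Bool) (lF [T_s, T_s, T_q, T_s, T_qi, T_r] M (Nat.sub (T_pi u) (Nat.mod (T_pi u) M)) (Nat.mod (T_pi u) M) u) (lS MG [T_q, T_q, T_r, T_pi, T_q, T_q, T_r] M (Nat.sub (T_pi u) (Nat.mod (T_pi u) M)) (nat_lit 40) (Nat.mod (T_pi u) M) u) (Nat.ble (nat_lit 34) j)
noncomputable def dp_pi_25 (j u : ℕ) : Bool :=
  Bool.rec (motive := fun _ => Bool) (lS MG [T_u, T_p, T_u, T_q, T_u, T_qi, T_u, T_pi, T_u, T_qi, T_r, T_pi] M (Nat.sub (T_pi u) (Nat.mod (T_pi u) M)) (nat_lit 40) (Nat.mod (T_pi u) M) u) (lF [T_pi, T_u, T_p, T_u, T_q, T_u, T_qi, T_u, T_pi, T_u, T_qi, T_r] M (Nat.sub (T_pi u) (Nat.mod (T_pi u) M)) (Nat.mod (T_pi u) M) u) (Nat.ble (nat_lit 36) j)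
noncomputable def dp_pi_26 (j u : ℕ) : Bool :=
  Bool.rec (motive := fun _ => Bool) (dp_pi_24 j u) (dp_pi_25 j u) (Nat.ble (nat_lit 35) j)
noncomputable def dp_pi_27 (j u : ℕ) : Bool :=
  Bool.rec (motive := fun _ => Bool) (dp_pi_23 j u) (dp_pi_26 j u) (Nat.ble (nat_lit 33) j)
noncomputable def dp_pi_28 (j u : ℕ) : Bool :=
  Bool.rec (motive := fun _ => Bool) (dp_pi_21 j u) (dp_pi_27 j u) (Nat.ble (nat_lit 30) j)
noncomputable def dp_pi_29 (j u : ℕ) : Bool :=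
  Bool.rec (motive := fun _ => Bool) (dp_pi_18 j u) (dp_pi_28 j u) (Nat.ble (nat_lit 26) j)
noncomputable def dp_pi_30 (j u : ℕ) : Bool :=
  Bool.rec (motive := fun _ => Bool) (dp_pi_14 j u) (dp_pi_29 j u) (Nat.ble (nat_lit 21) j)
noncomputable def dp_pi_31 (j u : ℕ) : Bool :=
  Bool.rec (motive := fun _ => Bool) (dp_pi_7 j u) (dp_pi_30 j u) (Nat.ble (nat_lit 13) j)
noncomputable def disp_pi (j u : ℕ) : Bool :=
  Bool.rec (motive := fun _ => Bool) (Bool.rec (motive := fun _ => Bool) (lDef P (nat_lit 0) u (Nat.mod (T_pi u) M)) (lDef P (nat_lit 1) (Nat.mod (T_pi u) M) u) (Nat.ble (nat_lit 1) j)) (Bool.rec (motive := fun _ => Bool) (Bool.rec (motive := fun _ => Bool) (lS MG [T_p] M (Nat.sub (T_pi u) (Nat.mod (T_pi u) M)) (nat_lit 40) (Nat.mod (T_pi u) M) u) (lF1 T_p M (Nat.sub (T_pi u) (Nat.mod (T_pi u) M)) (Nat.mod (T_pi u) M) u) (Nat.ble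 (nat_lit 3) j)) (dp_pi_31 j u) (Nat.ble (nat_lit 4) j)) (Nat.ble (nat_lit 2) j)
noncomputable def chk_pi (j u : ℕ) : Bool :=
  Bool.rec (motive := fun _ => Bool) (disp_pi j u) (Nat.ble (Nat.succ (MG u)) A) (Nat.ble A (T_pi u))
noncomputable def dp_q_0 (j u : ℕ) : Bool :=
  Bool.rec (motive := fun _ => Bool) (lF [T_q, T_q, T_q, T_q] M (Nat.sub (T_q u) (Nat.mod (T_q u) M)) (Nat.mod (T_q u) M) u) (lF [T_si, T_q, T_si, T_q, T_si] M (Nat.sub (T_q u) (Nat.mod (T_q u) M)) (Nat.mod (T_q u) M) u) (Nat.ble (nat_lit 5) j)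
noncomputable def dp_q_1 (j u : ℕ) : Bool :=
  Bool.rec (motive := fun _ => Bool) (lF [T_si, T_p, T_ri, T_q, T_q, T_s] M (Nat.sub (T_q u) (Nat.mod (T_q u) M)) (Nat.mod (T_q u) M) u) (lS MG [T_q, T_q, T_q, T_q] M (Nat.sub (T_q u) (Nat.mod (T_q u) M)) (nat_lit 40) (Nat.mod (T_q u) M) u) (Nat.ble (nat_lit 8) j)
noncomputable def dp_q_2 (j u : ℕ) : Bool :=
  Bool.rec (motive := fun _ => Bool) (lS MG [T_u, T_qi, T_u, T_q, T_s, T_s, T_p, T_r, T_p, T_si, T_qi, T_u] M (Nat.sub (T_q u) (Nat.mod (T_q u) M)) (nat_lit 40) (Nat.mod (T_q u) M) u) (dp_q_1 j u) (Nat.ble (nat_lit 7) j)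
noncomputable def dp_q_3 (j u : ℕ) : Bool :=
  Bool.rec (motive := fun _ => Bool) (dp_q_0 j u) (dp_q_2 j u) (Nat.ble (nat_lit 6) j)
noncomputable def dp_q_4 (j u : ℕ) : Bool :=
  Bool.rec (motive := fun _ => Bool) (lF [T_s, T_qi, T_r, T_pi, T_s, T_s] M (Nat.sub (T_q u) (Nat.mod (T_q u) M)) (Nat.mod (T_q u) M) u) (lS MG [T_si, T_q, T_si, T_q, T_si] M (Nat.sub (T_q u) (Nat.mod (T_q u) M)) (nat_lit 40) (Nat.mod (T_q u) M) u) (Nat.ble (nat_lit 10) j)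
noncomputable def dp_q_5 (j u : ℕ) : Bool :=
  Bool.rec (motive := fun _ => Bool) (lS MG [T_u, T_qi, T_u, T_q, T_s, T_pi, T_ri, T_pi, T_si, T_si, T_qi, T_u] M (Nat.sub (T_q u) (Nat.mod (T_q u) M)) (nat_lit 40) (Nat.mod (T_q u) M) u) (lS MG [T_p, T_p, T_ri, T_q, T_pi, T_pi, T_ri] M (Nat.sub (T_q u) (Nat.mod (T_q u) M)) (nat_lit 40) (Nat.mod (T_q u) M) u) (Nat.ble (nat_lit 12) j)
noncomputable def dp_q_6 (j u : ℕ) : Bool :=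
  Bool.rec (motive := fun _ => Bool) (lF [T_q, T_s, T_q, T_si, T_p, T_ri] M (Nat.sub (T_q u) (Nat.mod (T_q u) M)) (Nat.mod (T_q u) M) u) (lF [T_s, T_q, T_si, T_p, T_ri, T_q] M (Nat.sub (T_q u) (Nat.mod (T_q u) M)) (Nat.mod (T_q u) M) u) (Nat.ble (nat_lit 14) j)
noncomputable def dp_q_7 (j u : ℕ) : Bool :=
  Bool.rec (motive := fun _ => Bool) (dp_q_5 j u) (dp_q_6 j u) (Nat.ble (nat_lit 13) j)
noncomputable def dp_q_8 (j u : ℕ) : Bool :=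
  Bool.rec (motive := fun _ => Bool) (dp_q_4 j u) (dp_q_7 j u) (Nat.ble (nat_lit 11) j)
noncomputable def dp_q_9 (j u : ℕ) : Bool :=
  Bool.rec (motive := fun _ => Bool) (lS MG [T_si, T_p, T_ri, T_q, T_q, T_s] M (Nat.sub (T_q u) (Nat.mod (T_q u) M)) (nat_lit 40) (Nat.mod (T_q u) M) u) (lF [T_r, T_pi, T_q, T_q, T_r, T_pi, T_q] M (Nat.sub (T_q u) (Nat.mod (T_q u) M)) (Nat.mod (T_q u) M) u) (Nat.ble (nat_lit 16) j)
noncomputable def dp_q_10 (j u : ℕ) : Bool :=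
  Bool.rec (motive := fun _ => Bool) (lF [T_pi, T_pi, T_r, T_pi, T_pi, T_q, T_si] M (Nat.sub (T_q u) (Nat.mod (T_q u) M)) (Nat.mod (T_q u) M) u) (lS MG [T_s, T_qi, T_r, T_pi, T_s, T_s] M (Nat.sub (T_q u) (Nat.mod (T_q u) M)) (nat_lit 40) (Nat.mod (T_q u) M) u) (Nat.ble (nat_lit 19) j)
noncomputable def dp_q_11 (j u : ℕ) : Bool :=
  Bool.rec (motive := fun _ => Bool) (lS MG [T_si, T_qi, T_si, T_si, T_p, T_ri] M (Nat.sub (T_q u) (Nat.mod (T_q u) M)) (nat_lit 40) (Nat.mod (T_q u) M) u) (dp_q_10 j u) (Nat.ble (nat_lit 18) j)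
noncomputable def dp_q_12 (j u : ℕ) : Bool :=
  Bool.rec (motive := fun _ => Bool) (dp_q_9 j u) (dp_q_11 j u) (Nat.ble (nat_lit 17) j)
noncomputable def dp_q_13 (j u : ℕ) : Bool :=
  Bool.rec (motive := fun _ => Bool) (lS MG [T_pi, T_pi, T_r, T_pi, T_pi, T_q, T_si] M (Nat.sub (T_q u) (Nat.mod (T_q u) M)) (nat_lit 40) (Nat.mod (T_q u) M) u) (lF [T_pi, T_pi, T_ri, T_q, T_p, T_p, T_ri] M (Nat.sub (T_q u) (Nat.mod (T_q u) M)) (Nat.mod (T_q u) M) u) (Nat.ble (nat_lit 21) j)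
noncomputable def dp_q_14 (j u : ℕ) : Bool :=
  Bool.rec (motive := fun _ => Bool) (lF [T_si, T_pi, T_q, T_pi, T_r, T_si, T_r] M (Nat.sub (T_q u) (Nat.mod (T_q u) M)) (Nat.mod (T_q u) M) u) (lS MG [T_pi, T_r, T_si, T_r, T_q, T_si, T_pi] M (Nat.sub (T_q u) (Nat.mod (T_q u) M)) (nat_lit 40) (Nat.mod (T_q u) M) u) (Nat.ble (nat_lit 24) j)
noncomputable def dp_q_15 (j u : ℕ) : Bool :=
  Bool.rec (motive := fun _ => Bool) (lF [T_q, T_r, T_pi, T_q, T_q, T_r, T_pi] M (Nat.sub (T_q u) (Nat.mod (T_q u) M)) (Nat.mod (T_q u) M) u) (dp_q_14 j u) (Nat.ble (nat_lit 23) j)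
noncomputable def dp_q_16 (j u : ℕ) : Bool :=
  Bool.rec (motive := fun _ => Bool) (dp_q_13 j u) (dp_q_15 j u) (Nat.ble (nat_lit 22) j)
noncomputable def dp_q_17 (j u : ℕ) : Bool :=
  Bool.rec (motive := fun _ => Bool) (lF [T_pi, T_u, T_qi, T_p, T_p, T_q, T_r, T_s, T_pi, T_pi, T_q, T_u, T_s] M (Nat.sub (T_q u) (Nat.mod (T_q u) M)) (Nat.mod (T_q u) M) u) (lS MG [T_s, T_q, T_si, T_p, T_ri, T_q] M (Nat.sub (T_q u) (Nat.mod (T_q u) M)) (nat_lit 40) (Nat.mod (T_q u) M) u) (Nat.ble (nat_lit 27) j)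
noncomputable def dp_q_18 (j u : ℕ) : Bool :=
  Bool.rec (motive := fun _ => Bool) (lH [] [] M (Nat.sub (T_q u) (Nat.mod (T_q u) M)) (Nat.mod (T_q u) M) u) (dp_q_17 j u) (Nat.ble (nat_lit 26) j)
noncomputable def dp_q_19 (j u : ℕ) : Bool :=
  Bool.rec (motive := fun _ => Bool) (lS MG [T_u, T_qi, T_u, T_pi, T_u, T_qi, T_r, T_pi, T_pi, T_u, T_p, T_u] M (Nat.sub (T_q u) (Nat.mod (T_q u) M)) (nat_lit 40) (Nat.mod (T_q u) M) u) (lF [T_pi, T_r, T_si, T_r, T_q, T_si, T_pi] M (Nat.sub (T_q u) (Nat.mod (T_q u) M)) (Nat.mod (T_q u) M) u) (Nat.ble (nat_lit 30) j)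
noncomputable def dp_q_20 (j u : ℕ) : Bool :=
  Bool.rec (motive := fun _ => Bool) (lF [T_si, T_q, T_pi, T_pi, T_r, T_pi, T_pi] M (Nat.sub (T_q u) (Nat.mod (T_q u) M)) (Nat.mod (T_q u) M) u) (dp_q_19 j u) (Nat.ble (nat_lit 29) j)
noncomputable def dp_q_21 (j u : ℕ) : Bool :=
  Bool.rec (motive := fun _ => Bool) (dp_q_18 j u) (dp_q_20 j u) (Nat.ble (nat_lit 28) j)
noncomputable def dp_q_22 (j u : ℕ) : Bool :=
  Bool.rec (motive := fun _ => Bool) (lS MG [T_r, T_pi, T_q, T_q, T_r, T_pi, T_q] M (Nat.sub (T_q u) (Nat.mod (T_q u) M)) (nat_lit 40) (Nat.mod (T_q u) M) u) (lS MG [T_p, T_q, T_u, T_r, T_s, T_pi, T_si, T_qi, T_ri, T_u, T_qi, T_ri] M (Nat.sub (T_q u) (Nat.mod (T_q u) M)) (nat_lit 40) (Nat.mod (T_q u) M) u) (Nat.ble (nat_lit 33) j)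
noncomputable def dp_q_23 (j u : ℕ) : Bool :=
  Bool.rec (motive := fun _ => Bool) (lS MG [T_pi, T_u, T_qi, T_p, T_p, T_q, T_r, T_s, T_pi, T_pi, T_q, T_u, T_s] M (Nat.sub (T_q u) (Nat.mod (T_q u) M)) (nat_lit 40) (Nat.mod (T_q u) M) u) (dp_q_22 j u) (Nat.ble (nat_lit 32) j)
noncomputable def dp_q_24 (j u : ℕ) : Bool :=
  Bool.rec (motive := fun _ => Bool) (lS MG [T_u, T_qi, T_u, T_pi, T_u, T_p, T_p, T_ri, T_q, T_u, T_p, T_u] M (Nat.sub (T_q u) (Nat.mod (T_q u) M)) (nat_lit 40) (Nat.mod (T_q u) M) u) (lS MG [T_p, T_p, T_ri, T_q, T_p, T_p, T_ri] M (Nat.sub (T_q u) (Nat.mod (T_q u) M)) (nat_lit 40) (Nat.mod (T_q u) M) u) (Nat.ble (nat_lit 36) j)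
noncomputable def dp_q_25 (j u : ℕ) : Bool :=
  Bool.rec (motive := fun _ => Bool) (lS MG [T_u, T_r, T_q, T_s, T_p, T_si, T_ri, T_u, T_qi, T_pi, T_qi, T_r] M (Nat.sub (T_q u) (Nat.mod (T_q u) M)) (nat_lit 40) (Nat.mod (T_q u) M) u) (dp_q_24 j u) (Nat.ble (nat_lit 35) j)
noncomputable def dp_q_26 (j u : ℕ) : Bool :=
  Bool.rec (motive := fun _ => Bool) (dp_q_23 j u) (dp_q_25 j u) (Nat.ble (nat_lit 34) j)
noncomputable def dp_q_27 (j u : ℕ) : Bool :=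
  Bool.rec (motive := fun _ => Bool) (dp_q_21 j u) (dp_q_26 j u) (Nat.ble (nat_lit 31) j)
noncomputable def dp_q_28 (j u : ℕ) : Bool :=
  Bool.rec (motive := fun _ => Bool) (dp_q_16 j u) (dp_q_27 j u) (Nat.ble (nat_lit 25) j)
noncomputable def dp_q_29 (j u : ℕ) : Bool :=
  Bool.rec (motive := fun _ => Bool) (dp_q_12 j u) (dp_q_28 j u) (Nat.ble (nat_lit 20) j)
noncomputable def dp_q_30 (j u : ℕ) : Bool :=
  Bool.rec (motive := fun _ => Bool) (dp_q_8 j u) (dp_q_29 j u) (Nat.ble (nat_lit 15) j)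
noncomputable def dp_q_31 (j u : ℕ) : Bool :=
  Bool.rec (motive := fun _ => Bool) (dp_q_3 j u) (dp_q_30 j u) (Nat.ble (nat_lit 9) j)
noncomputable def disp_q (j u : ℕ) : Bool :=
  Bool.rec (motive := fun _ => Bool) (Bool.rec (motive := fun _ => Bool) (lDef P (nat_lit 2) (Nat.mod (T_q u) M) u) (lDef P (nat_lit 3) u (Nat.mod (T_q u) M)) (Nat.ble (nat_lit 1) j)) (Bool.rec (motive := fun _ => Bool) (Bool.rec (motive := fun _ => Bool) (lS MG [T_qi] M (Nat.sub (T_q u) (Nat.mod (T_q u) M)) (nat_lit 40) (Nat.mod (T_q u) M) u) (lF1 T_qi M (Nat.sub (T_q u) (Nat.mod (T_q u) M)) (Nat.mod (T_q u) M) u) (Nat.ble (nat_lit 3) j)) (dp_q_31 j u) (Nat.ble (nat_lit 4) j)) (Nat.ble (nat_lit 2) j)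
noncomputable def chk_q (j u : ℕ) : Bool :=
  Bool.rec (motive := fun _ => Bool) (disp_q j u) (Nat.ble (Nat.succ (MG u)) A) (Nat.ble A (T_q u))
noncomputable def dp_qi_0 (j u : ℕ) : Bool :=
  Bool.rec (motive := fun _ => Bool) (lF [T_qi, T_qi, T_qi, T_qi] M (Nat.sub (T_qi u) (Nat.mod (T_qi u) M)) (Nat.mod (T_qi u) M) u) (lS MG [T_qi, T_qi, T_qi, T_qi] M (Nat.sub (T_qi u) (Nat.mod (T_qi u) M)) (nat_lit 40) (Nat.mod (T_qi u) M) u) (Nat.ble (nat_lit 5) j)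
noncomputable def dp_qi_1 (j u : ℕ) : Bool :=
  Bool.rec (motive := fun _ => Bool) (lF [T_si, T_qi, T_qi, T_r, T_pi, T_s] M (Nat.sub (T_qi u) (Nat.mod (T_qi u) M)) (Nat.mod (T_qi u) M) u) (lF [T_si, T_si, T_p, T_ri, T_q, T_si] M (Nat.sub (T_qi u) (Nat.mod (T_qi u) M)) (Nat.mod (T_qi u) M) u) (Nat.ble (nat_lit 9) j)
noncomputable def dp_qi_2 (j u : ℕ) : Bool :=
  Bool.rec (motive := fun _ => Bool) (lS MG [T_u, T_q, T_s, T_s, T_p, T_r, T_p, T_si, T_qi, T_u, T_q, T_u] M (Nat.sub (T_qi u) (Nat.mod (T_qi u) M)) (nat_lit 40) (Nat.mod (T_qi u) M) u) (dp_qi_1 j u) (Nat.ble (nat_lit 8) j)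
noncomputable def dp_qi_3 (j u : ℕ) : Bool :=
  Bool.rec (motive := fun _ => Bool) (lS MG [T_s, T_qi, T_s, T_qi, T_s] M (Nat.sub (T_qi u) (Nat.mod (T_qi u) M)) (nat_lit 40) (Nat.mod (T_qi u) M) u) (dp_qi_2 j u) (Nat.ble (nat_lit 7) j)
noncomputable def dp_qi_4 (j u : ℕ) : Bool :=
  Bool.rec (motive := fun _ => Bool) (dp_qi_0 j u) (dp_qi_3 j u) (Nat.ble (nat_lit 6) j)
noncomputable def dp_qi_5 (j u : ℕ) : Bool :=
  Bool.rec (motive := fun _ => Bool) (lF [T_s, T_qi, T_s, T_qi, T_s] M (Nat.sub (T_qi u) (Nat.mod (T_qi u) M)) (Nat.mod (T_qi u) M) u) (lS MG [T_u, T_q, T_s, T_pi, T_ri, T_pi, T_si, T_si, T_qi, T_u, T_q, T_u] M (Nat.sub (T_qi u) (Nat.mod (T_qi u) M)) (nat_lit 40) (Nat.mod (T_qi u) M) u) (Nat.ble (nat_lit 12) j)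
noncomputable def dp_qi_6 (j u : ℕ) : Bool :=
  Bool.rec (motive := fun _ => Bool) (lF [T_s, T_qi, T_p, T_p, T_ri, T_p, T_p] M (Nat.sub (T_qi u) (Nat.mod (T_qi u) M)) (Nat.mod (T_qi u) M) u) (dp_qi_5 j u) (Nat.ble (nat_lit 11) j)
noncomputable def dp_qi_7 (j u : ℕ) : Bool :=
  Bool.rec (motive := fun _ => Bool) (lS MG [T_qi, T_r, T_pi, T_s, T_qi, T_si] M (Nat.sub (T_qi u) (Nat.mod (T_qi u) M)) (nat_lit 40) (Nat.mod (T_qi u) M) u) (lF [T_r, T_pi, T_s, T_qi, T_si, T_qi] M (Nat.sub (T_qi u) (Nat.mod (T_qi u) M)) (Nat.mod (T_qi u) M) u) (Nat.ble (nat_lit 14) j)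
noncomputable def dp_qi_8 (j u : ℕ) : Bool :=
  Bool.rec (motive := fun _ => Bool) (lS MG [T_r, T_pi, T_s, T_qi, T_si, T_qi] M (Nat.sub (T_qi u) (Nat.mod (T_qi u) M)) (nat_lit 40) (Nat.mod (T_qi u) M) u) (lS MG [T_r, T_pi, T_pi, T_qi, T_r, T_p, T_p] M (Nat.sub (T_qi u) (Nat.mod (T_qi u) M)) (nat_lit 40) (Nat.mod (T_qi u) M) u) (Nat.ble (nat_lit 16) j)
noncomputable def dp_qi_9 (j u : ℕ) : Bool :=
  Bool.rec (motive := fun _ => Bool) (dp_qi_7 j u) (dp_qi_8 j u) (Nat.ble (nat_lit 15) j)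
noncomputable def dp_qi_10 (j u : ℕ) : Bool :=
  Bool.rec (motive := fun _ => Bool) (dp_qi_6 j u) (dp_qi_9 j u) (Nat.ble (nat_lit 13) j)
noncomputable def dp_qi_11 (j u : ℕ) : Bool :=
  Bool.rec (motive := fun _ => Bool) (lS MG [T_si, T_qi, T_qi, T_r, T_pi, T_s] M (Nat.sub (T_qi u) (Nat.mod (T_qi u) M)) (nat_lit 40) (Nat.mod (T_qi u) M) u) (lF [T_p, T_p, T_ri, T_p, T_p, T_qi, T_s] M (Nat.sub (T_qi u) (Nat.mod (T_qi u) M)) (Nat.mod (T_qi u) M) u) (Nat.ble (nat_lit 19) j)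
noncomputable def dp_qi_12 (j u : ℕ) : Bool :=
  Bool.rec (motive := fun _ => Bool) (lS MG [T_r, T_p, T_p, T_qi, T_r, T_pi, T_pi] M (Nat.sub (T_qi u) (Nat.mod (T_qi u) M)) (nat_lit 40) (Nat.mod (T_qi u) M) u) (dp_qi_11 j u) (Nat.ble (nat_lit 18) j)
noncomputable def dp_qi_13 (j u : ℕ) : Bool :=
  Bool.rec (motive := fun _ => Bool) (lS MG [T_si, T_si, T_p, T_ri, T_q, T_si] M (Nat.sub (T_qi u) (Nat.mod (T_qi u) M)) (nat_lit 40) (Nat.mod (T_qi u) M) u) (lS MG [T_u, T_pi, T_u, T_p, T_p, T_ri, T_q, T_u, T_p, T_u, T_q, T_u] M (Nat.sub (T_qi u) (Nat.mod (T_qi u) M)) (nat_lit 40) (Nat.mod (T_qi u) M) u) (Nat.ble (nat_lit 22) j)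
noncomputable def dp_qi_14 (j u : ℕ) : Bool :=
  Bool.rec (motive := fun _ => Bool) (lF [T_qi, T_p, T_ri, T_qi, T_qi, T_p, T_ri] M (Nat.sub (T_qi u) (Nat.mod (T_qi u) M)) (Nat.mod (T_qi u) M) u) (dp_qi_13 j u) (Nat.ble (nat_lit 21) j)
noncomputable def dp_qi_15 (j u : ℕ) : Bool :=
  Bool.rec (motive := fun _ => Bool) (dp_qi_12 j u) (dp_qi_14 j u) (Nat.ble (nat_lit 20) j)
noncomputable def dp_qi_16 (j u : ℕ) : Bool :=
  Bool.rec (motive := fun _ => Bool) (lS MG [T_ri, T_s, T_ri, T_p, T_qi, T_p, T_s] M (Nat.sub (T_qi u) (Nat.mod (T_qi u) M)) (nat_lit 40) (Nat.mod (T_qi u) M) u) (lS MG [T_s, T_qi, T_p, T_p, T_ri, T_p, T_p] M (Nat.sub (T_qi u) (Nat.mod (T_qi u) M)) (nat_lit 40) (Nat.mod (T_qi u) M) u) (Nat.ble (nat_lit 24) j)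
noncomputable def dp_qi_17 (j u : ℕ) : Bool :=
  Bool.rec (motive := fun _ => Bool) (lS MG [T_p, T_s, T_qi, T_ri, T_s, T_ri, T_p] M (Nat.sub (T_qi u) (Nat.mod (T_qi u) M)) (nat_lit 40) (Nat.mod (T_qi u) M) u) (lS MG [T_p, T_p, T_ri, T_p, T_p, T_qi, T_s] M (Nat.sub (T_qi u) (Nat.mod (T_qi u) M)) (nat_lit 40) (Nat.mod (T_qi u) M) u) (Nat.ble (nat_lit 26) j)
noncomputable def dp_qi_18 (j u : ℕ) : Bool :=
  Bool.rec (motive := fun _ => Bool) (dp_qi_16 j u) (dp_qi_17 j u) (Nat.ble (nat_lit 25) j)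
noncomputable def dp_qi_19 (j u : ℕ) : Bool :=
  Bool.rec (motive := fun _ => Bool) (lF [T_r, T_p, T_p, T_qi, T_r, T_pi, T_pi] M (Nat.sub (T_qi u) (Nat.mod (T_qi u) M)) (Nat.mod (T_qi u) M) u) (lF [T_pi, T_pi, T_q, T_u, T_p, T_qi, T_si, T_u, T_qi, T_p, T_p, T_si, T_ri] M (Nat.sub (T_qi u) (Nat.mod (T_qi u) M)) (Nat.mod (T_qi u) M) u) (Nat.ble (nat_lit 30) j)
noncomputable def dp_qi_20 (j u : ℕ) : Bool :=
  Bool.rec (motive := fun _ => Bool) (lF [T_r, T_q, T_u, T_r, T_q, T_s, T_p, T_si, T_ri, T_u, T_qi, T_pi] M (Nat.sub (T_qi u) (Nat.mod (T_qi u) M)) (Nat.mod (T_qi u) M) u) (dp_qi_19 j u) (Nat.ble (nat_lit 29) j)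
noncomputable def dp_qi_21 (j u : ℕ) : Bool :=
  Bool.rec (motive := fun _ => Bool) (lS MG [T_r, T_q, T_u, T_r, T_q, T_s, T_p, T_si, T_ri, T_u, T_qi, T_pi] M (Nat.sub (T_qi u) (Nat.mod (T_qi u) M)) (nat_lit 40) (Nat.mod (T_qi u) M) u) (dp_qi_20 j u) (Nat.ble (nat_lit 28) j)
noncomputable def dp_qi_22 (j u : ℕ) : Bool :=
  Bool.rec (motive := fun _ => Bool) (lS MG [T_ri, T_q, T_p, T_q, T_u, T_r, T_s, T_pi, T_si, T_qi, T_ri, T_u] M (Nat.sub (T_qi u) (Nat.mod (T_qi u) M)) (nat_lit 40) (Nat.mod (T_qi u) M) u) (lS MG [T_r, T_pi, T_pi, T_qi, T_r, T_pi, T_pi] M (Nat.sub (T_qi u) (Nat.mod (T_qi u) M)) (nat_lit 40) (Nat.mod (T_qi u) M) u) (Nat.ble (nat_lit 33) j)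
noncomputable def dp_qi_23 (j u : ℕ) : Bool :=
  Bool.rec (motive := fun _ => Bool) (lF [T_r, T_pi, T_pi, T_qi, T_r, T_pi, T_pi] M (Nat.sub (T_qi u) (Nat.mod (T_qi u) M)) (Nat.mod (T_qi u) M) u) (dp_qi_22 j u) (Nat.ble (nat_lit 32) j)
noncomputable def dp_qi_24 (j u : ℕ) : Bool :=
  Bool.rec (motive := fun _ => Bool) (lF [T_p, T_s, T_qi, T_ri, T_s, T_ri, T_p] M (Nat.sub (T_qi u) (Nat.mod (T_qi u) M)) (Nat.mod (T_qi u) M) u) (lS MG [T_u, T_pi, T_u, T_qi, T_r, T_pi, T_pi, T_u, T_p, T_u, T_q, T_u] M (Nat.sub (T_qi u) (Nat.mod (T_qi u) M)) (nat_lit 40) (Nat.mod (T_qi u) M) u) (Nat.ble (nat_lit 36) j)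
noncomputable def dp_qi_25 (j u : ℕ) : Bool :=
  Bool.rec (motive := fun _ => Bool) (lF [T_qi, T_r, T_pi, T_s, T_qi, T_si] M (Nat.sub (T_qi u) (Nat.mod (T_qi u) M)) (Nat.mod (T_qi u) M) u) (dp_qi_24 j u) (Nat.ble (nat_lit 35) j)
noncomputable def dp_qi_26 (j u : ℕ) : Bool :=
  Bool.rec (motive := fun _ => Bool) (dp_qi_23 j u) (dp_qi_25 j u) (Nat.ble (nat_lit 34) j)
noncomputable def dp_qi_27 (j u : ℕ) : Bool :=
  Bool.rec (motive := fun _ => Bool) (dp_qi_21 j u) (dp_qi_26 j u) (Nat.ble (nat_lit 31) j)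
noncomputable def dp_qi_28 (j u : ℕ) : Bool :=
  Bool.rec (motive := fun _ => Bool) (dp_qi_18 j u) (dp_qi_27 j u) (Nat.ble (nat_lit 27) j)
noncomputable def dp_qi_29 (j u : ℕ) : Bool :=
  Bool.rec (motive := fun _ => Bool) (dp_qi_15 j u) (dp_qi_28 j u) (Nat.ble (nat_lit 23) j)
noncomputable def dp_qi_30 (j u : ℕ) : Bool :=
  Bool.rec (motive := fun _ => Bool) (dp_qi_10 j u) (dp_qi_29 j u) (Nat.ble (nat_lit 17) j)
noncomputable def dp_qi_31 (j u : ℕ) : Bool :=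
  Bool.rec (motive := fun _ => Bool) (dp_qi_4 j u) (dp_qi_30 j u) (Nat.ble (nat_lit 10) j)
noncomputable def dp_qi_32 (j u : ℕ) : Bool :=
  Bool.rec (motive := fun _ => Bool) (lS MG [T_q] M (Nat.sub (T_qi u) (Nat.mod (T_qi u) M)) (nat_lit 40) (Nat.mod (T_qi u) M) u) (dp_qi_31 j u) (Nat.ble (nat_lit 4) j)
noncomputable def disp_qi (j u : ℕ) : Bool :=
  Bool.rec (motive := fun _ => Bool) (Bool.rec (motive := fun _ => Bool) (lDef P (nat_lit 2) u (Nat.mod (T_qi u) M)) (lDef P (nat_lit 3) (Nat.mod (T_qi u) M) u) (Nat.ble (nat_lit 1) j)) (Bool.rec (motive := fun _ => Bool) (lF1 T_q M (Nat.sub (T_qi u) (Nat.mod (T_qi u) M)) (Nat.mod (T_qi u) M) u) (dp_qi_32 j u) (Nat.ble (nat_lit 3) j)) (Nat.ble (nat_lit 2) j)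
noncomputable def chk_qi (j u : ℕ) : Bool :=
  Bool.rec (motive := fun _ => Bool) (disp_qi j u) (Nat.ble (Nat.succ (MG u)) A) (Nat.ble A (T_qi u))
noncomputable def dp_r_0 (j u : ℕ) : Bool :=
  Bool.rec (motive := fun _ => Bool) (lF [T_pi, T_s, T_qi, T_si, T_qi, T_qi] M (Nat.sub (T_r u) (Nat.mod (T_r u) M)) (Nat.mod (T_r u) M) u) (lS MG [T_q, T_si, T_pi, T_q, T_pi, T_r, T_si] M (Nat.sub (T_r u) (Nat.mod (T_r u) M)) (nat_lit 40) (Nat.mod (T_r u) M) u) (Nat.ble (nat_lit 6) j)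
noncomputable def dp_r_1 (j u : ℕ) : Bool :=
  Bool.rec (motive := fun _ => Bool) (lS MG [T_pi, T_s, T_qi, T_si, T_qi, T_qi] M (Nat.sub (T_r u) (Nat.mod (T_r u) M)) (nat_lit 40) (Nat.mod (T_r u) M) u) (dp_r_0 j u) (Nat.ble (nat_lit 5) j)
noncomputable def dp_r_2 (j u : ℕ) : Bool :=
  Bool.rec (motive := fun _ => Bool) (lF [T_pi, T_s, T_s, T_q, T_s, T_qi] M (Nat.sub (T_r u) (Nat.mod (T_r u) M)) (Nat.mod (T_r u) M) u) (lS MG [T_p, T_p, T_qi, T_r, T_pi, T_pi, T_qi] M (Nat.sub (T_r u) (Nat.mod (T_r u) M)) (nat_lit 40) (Nat.mod (T_r u) M) u) (Nat.ble (nat_lit 8) j)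
noncomputable def dp_r_3 (j u : ℕ) : Bool :=
  Bool.rec (motive := fun _ => Bool) (lS MG [T_pi, T_pi, T_q, T_si, T_q, T_pi, T_pi] M (Nat.sub (T_r u) (Nat.mod (T_r u) M)) (nat_lit 40) (Nat.mod (T_r u) M) u) (lF [T_si, T_r, T_q, T_si, T_pi, T_q, T_pi] M (Nat.sub (T_r u) (Nat.mod (T_r u) M)) (Nat.mod (T_r u) M) u) (Nat.ble (nat_lit 11) j)
noncomputable def dp_r_4 (j u : ℕ) : Bool :=
  Bool.rec (motive := fun _ => Bool) (lF [T_pi, T_pi, T_q, T_si, T_q, T_pi, T_pi] M (Nat.sub (T_r u) (Nat.mod (T_r u) M)) (Nat.mod (T_r u) M) u) (dp_r_3 j u) (Nat.ble (nat_lit 10) j)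
noncomputable def dp_r_5 (j u : ℕ) : Bool :=
  Bool.rec (motive := fun _ => Bool) (dp_r_2 j u) (dp_r_4 j u) (Nat.ble (nat_lit 9) j)
noncomputable def dp_r_6 (j u : ℕ) : Bool :=
  Bool.rec (motive := fun _ => Bool) (lS MG [T_pi, T_s, T_s, T_q, T_s, T_qi] M (Nat.sub (T_r u) (Nat.mod (T_r u) M)) (nat_lit 40) (Nat.mod (T_r u) M) u) (lF [T_p, T_p, T_qi, T_r, T_pi, T_pi, T_qi] M (Nat.sub (T_r u) (Nat.mod (T_r u) M)) (Nat.mod (T_r u) M) u) (Nat.ble (nat_lit 13) j)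
noncomputable def dp_r_7 (j u : ℕ) : Bool :=
  Bool.rec (motive := fun _ => Bool) (lF [T_q, T_si, T_pi, T_q, T_pi, T_r, T_si] M (Nat.sub (T_r u) (Nat.mod (T_r u) M)) (Nat.mod (T_r u) M) u) (lS MG [T_si, T_r, T_q, T_si, T_pi, T_q, T_pi] M (Nat.sub (T_r u) (Nat.mod (T_r u) M)) (nat_lit 40) (Nat.mod (T_r u) M) u) (Nat.ble (nat_lit 15) j)
noncomputable def dp_r_8 (j u : ℕ) : Bool :=
  Bool.rec (motive := fun _ => Bool) (dp_r_6 j u) (dp_r_7 j u) (Nat.ble (nat_lit 14) j)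
noncomputable def dp_r_9 (j u : ℕ) : Bool :=
  Bool.rec (motive := fun _ => Bool) (lF [T_pi, T_pi, T_qi, T_r, T_pi, T_pi, T_qi] M (Nat.sub (T_r u) (Nat.mod (T_r u) M)) (Nat.mod (T_r u) M) u) (lS MG [T_pi, T_q, T_q, T_r, T_pi, T_q, T_q] M (Nat.sub (T_r u) (Nat.mod (T_r u) M)) (nat_lit 40) (Nat.mod (T_r u) M) u) (Nat.ble (nat_lit 18) j)
noncomputable def dp_r_10 (j u : ℕ) : Bool :=
  Bool.rec (motive := fun _ => Bool) (lF [T_pi, T_pi, T_qi, T_r, T_p, T_p, T_qi] M (Nat.sub (T_r u) (Nat.mod (T_r u) M)) (Nat.mod (T_r u) M) u) (dp_r_9 j u) (Nat.ble (nat_lit 17) j)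
noncomputable def dp_r_11 (j u : ℕ) : Bool :=
  Bool.rec (motive := fun _ => Bool) (lF [T_pi, T_q, T_q, T_r, T_pi, T_q, T_q] M (Nat.sub (T_r u) (Nat.mod (T_r u) M)) (Nat.mod (T_r u) M) u) (lS MG [T_pi, T_pi, T_qi, T_r, T_p, T_p, T_qi] M (Nat.sub (T_r u) (Nat.mod (T_r u) M)) (nat_lit 40) (Nat.mod (T_r u) M) u) (Nat.ble (nat_lit 20) j)
noncomputable def dp_r_12 (j u : ℕ) : Bool :=
  Bool.rec (motive := fun _ => Bool) (lH [] [] M (Nat.sub (T_r u) (Nat.mod (T_r u) M)) (Nat.mod (T_r u) M) u) (lF [T_q, T_u, T_r, T_q, T_s, T_p, T_si, T_ri, T_u, T_qi, T_pi, T_qi] M (Nat.sub (T_r u) (Nat.mod (T_r u) M)) (Nat.mod (T_r u) M) u) (Nat.ble (nat_lit 23) j)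
noncomputable def dp_r_13 (j u : ℕ) : Bool :=
  Bool.rec (motive := fun _ => Bool) (lS MG [T_q, T_u, T_r, T_q, T_s, T_p, T_si, T_ri, T_u, T_qi, T_pi, T_qi] M (Nat.sub (T_r u) (Nat.mod (T_r u) M)) (nat_lit 40) (Nat.mod (T_r u) M) u) (dp_r_12 j u) (Nat.ble (nat_lit 22) j)
noncomputable def dp_r_14 (j u : ℕ) : Bool :=
  Bool.rec (motive := fun _ => Bool) (dp_r_11 j u) (dp_r_13 j u) (Nat.ble (nat_lit 21) j)
noncomputable def dp_r_15 (j u : ℕ) : Bool :=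
  Bool.rec (motive := fun _ => Bool) (dp_r_10 j u) (dp_r_14 j u) (Nat.ble (nat_lit 19) j)
noncomputable def dp_r_16 (j u : ℕ) : Bool :=
  Bool.rec (motive := fun _ => Bool) (dp_r_8 j u) (dp_r_15 j u) (Nat.ble (nat_lit 16) j)
noncomputable def dp_r_17 (j u : ℕ) : Bool :=
  Bool.rec (motive := fun _ => Bool) (dp_r_5 j u) (dp_r_16 j u) (Nat.ble (nat_lit 12) j)
noncomputable def dp_r_18 (j u : ℕ) : Bool :=
  Bool.rec (motive := fun _ => Bool) (dp_r_1 j u) (dp_r_17 j u) (Nat.ble (nat_lit 7) j)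
noncomputable def dp_r_19 (j u : ℕ) : Bool :=
  Bool.rec (motive := fun _ => Bool) (Bool.rec (motive := fun _ => Bool) (lS MG [T_ri] M (Nat.sub (T_r u) (Nat.mod (T_r u) M)) (nat_lit 40) (Nat.mod (T_r u) M) u) (lF1 T_ri M (Nat.sub (T_r u) (Nat.mod (T_r u) M)) (Nat.mod (T_r u) M) u) (Nat.ble (nat_lit 3) j)) (dp_r_18 j u) (Nat.ble (nat_lit 4) j)
noncomputable def disp_r (j u : ℕ) : Bool :=
  Bool.rec (motive := fun _ => Bool) (Bool.rec (motive := fun _ => Bool) (lDef P (nat_lit 4) (Nat.mod (T_r u) M) u) (lDef P (nat_lit 5) u (Nat.mod (T_r u) M)) (Nat.ble (nat_lit 1) j)) (dp_r_19 j u) (Nat.ble (nat_lit 2) j)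
noncomputable def chk_r (j u : ℕ) : Bool :=
  Bool.rec (motive := fun _ => Bool) (disp_r j u) (Nat.ble (Nat.succ (MG u)) A) (Nat.ble A (T_r u))
noncomputable def dp_ri_0 (j u : ℕ) : Bool :=
  Bool.rec (motive := fun _ => Bool) (lS MG [T_s, T_ri, T_p, T_qi, T_p, T_s, T_qi] M (Nat.sub (T_ri u) (Nat.mod (T_ri u) M)) (nat_lit 40) (Nat.mod (T_ri u) M) u) (lS MG [T_q, T_si, T_qi, T_si, T_si, T_p] M (Nat.sub (T_ri u) (Nat.mod (T_ri u) M)) (nat_lit 40) (Nat.mod (T_ri u) M) u) (Nat.ble (nat_lit 7) j)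
noncomputable def dp_ri_1 (j u : ℕ) : Bool :=
  Bool.rec (motive := fun _ => Bool) (lF [T_q, T_q, T_s, T_q, T_si, T_p] M (Nat.sub (T_ri u) (Nat.mod (T_ri u) M)) (Nat.mod (T_ri u) M) u) (dp_ri_0 j u) (Nat.ble (nat_lit 6) j)
noncomputable def dp_ri_2 (j u : ℕ) : Bool :=
  Bool.rec (motive := fun _ => Bool) (lS MG [T_q, T_q, T_s, T_q, T_si, T_p] M (Nat.sub (T_ri u) (Nat.mod (T_ri u) M)) (nat_lit 40) (Nat.mod (T_ri u) M) u) (dp_ri_1 j u) (Nat.ble (nat_lit 5) j)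
noncomputable def dp_ri_3 (j u : ℕ) : Bool :=
  Bool.rec (motive := fun _ => Bool) (lS MG [T_p, T_p, T_qi, T_s, T_qi, T_p, T_p] M (Nat.sub (T_ri u) (Nat.mod (T_ri u) M)) (nat_lit 40) (Nat.mod (T_ri u) M) u) (lF [T_q, T_p, T_p, T_ri, T_q, T_pi, T_pi] M (Nat.sub (T_ri u) (Nat.mod (T_ri u) M)) (Nat.mod (T_ri u) M) u) (Nat.ble (nat_lit 9) j)
noncomputable def dp_ri_4 (j u : ℕ) : Bool :=
  Bool.rec (motive := fun _ => Bool) (lF [T_p, T_p, T_qi, T_s, T_qi, T_p, T_p] M (Nat.sub (T_ri u) (Nat.mod (T_ri u) M)) (Nat.mod (T_ri u) M) u) (lS MG [T_q, T_p, T_p, T_ri, T_q, T_pi, T_pi] M (Nat.sub (T_ri u) (Nat.mod (T_ri u) M)) (nat_lit 40) (Nat.mod (T_ri u) M) u) (Nat.ble (nat_lit 12) j)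
noncomputable def dp_ri_5 (j u : ℕ) : Bool :=
  Bool.rec (motive := fun _ => Bool) (lS MG [T_p, T_qi, T_p, T_s, T_qi, T_ri, T_s] M (Nat.sub (T_ri u) (Nat.mod (T_ri u) M)) (nat_lit 40) (Nat.mod (T_ri u) M) u) (dp_ri_4 j u) (Nat.ble (nat_lit 11) j)
noncomputable def dp_ri_6 (j u : ℕ) : Bool :=
  Bool.rec (motive := fun _ => Bool) (dp_ri_3 j u) (dp_ri_5 j u) (Nat.ble (nat_lit 10) j)
noncomputable def dp_ri_7 (j u : ℕ) : Bool :=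
  Bool.rec (motive := fun _ => Bool) (lF [T_q, T_si, T_qi, T_si, T_si, T_p] M (Nat.sub (T_ri u) (Nat.mod (T_ri u) M)) (Nat.mod (T_ri u) M) u) (lF [T_qi, T_qi, T_p, T_ri, T_qi, T_qi, T_p] M (Nat.sub (T_ri u) (Nat.mod (T_ri u) M)) (Nat.mod (T_ri u) M) u) (Nat.ble (nat_lit 14) j)
noncomputable def dp_ri_8 (j u : ℕ) : Bool :=
  Bool.rec (motive := fun _ => Bool) (lF [T_p, T_qi, T_p, T_s, T_qi, T_ri, T_s] M (Nat.sub (T_ri u) (Nat.mod (T_ri u) M)) (Nat.mod (T_ri u) M) u) (lS MG [T_qi, T_qi, T_p, T_ri, T_qi, T_qi, T_p] M (Nat.sub (T_ri u) (Nat.mod (T_ri u) M)) (nat_lit 40) (Nat.mod (T_ri u) M) u) (Nat.ble (nat_lit 16) j)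
noncomputable def dp_ri_9 (j u : ℕ) : Bool :=
  Bool.rec (motive := fun _ => Bool) (dp_ri_7 j u) (dp_ri_8 j u) (Nat.ble (nat_lit 15) j)
noncomputable def dp_ri_10 (j u : ℕ) : Bool :=
  Bool.rec (motive := fun _ => Bool) (lF [T_s, T_ri, T_p, T_qi, T_p, T_s, T_qi] M (Nat.sub (T_ri u) (Nat.mod (T_ri u) M)) (Nat.mod (T_ri u) M) u) (lF [T_q, T_u, T_p, T_u, T_q, T_u, T_qi, T_u, T_pi, T_u, T_p, T_p] M (Nat.sub (T_ri u) (Nat.mod (T_ri u) M)) (Nat.mod (T_ri u) M) u) (Nat.ble (nat_lit 19) j)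
noncomputable def dp_ri_11 (j u : ℕ) : Bool :=
  Bool.rec (motive := fun _ => Bool) (lS MG [T_q, T_pi, T_pi, T_ri, T_q, T_p, T_p] M (Nat.sub (T_ri u) (Nat.mod (T_ri u) M)) (nat_lit 40) (Nat.mod (T_ri u) M) u) (dp_ri_10 j u) (Nat.ble (nat_lit 18) j)
noncomputable def dp_ri_12 (j u : ℕ) : Bool :=
  Bool.rec (motive := fun _ => Bool) (lS MG [T_u, T_qi, T_pi, T_qi, T_r, T_q, T_u, T_r, T_q, T_s, T_p, T_si] M (Nat.sub (T_ri u) (Nat.mod (T_ri u) M)) (nat_lit 40) (Nat.mod (T_ri u) M) u) (lS MG [T_q, T_u, T_p, T_u, T_q, T_u, T_qi, T_u, T_pi, T_u, T_p, T_p] M (Nat.sub (T_ri u) (Nat.mod (T_ri u) M)) (nat_lit 40) (Nat.mod (T_ri u) M) u) (Nat.ble (nat_lit 21) j)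
noncomputable def dp_ri_13 (j u : ℕ) : Bool :=
  Bool.rec (motive := fun _ => Bool) (lS MG [T_u, T_si, T_pi, T_u, T_p, T_s, T_u, T_r, T_si, T_si, T_r, T_pi] M (Nat.sub (T_ri u) (Nat.mod (T_ri u) M)) (nat_lit 40) (Nat.mod (T_ri u) M) u) (lS MG [T_q, T_p, T_q, T_u, T_r, T_s, T_pi, T_si, T_qi, T_ri, T_u, T_qi] M (Nat.sub (T_ri u) (Nat.mod (T_ri u) M)) (nat_lit 40) (Nat.mod (T_ri u) M) u) (Nat.ble (nat_lit 23) j)
noncomputable def dp_ri_14 (j u : ℕ) : Bool :=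
  Bool.rec (motive := fun _ => Bool) (lF [T_q, T_pi, T_pi, T_ri, T_q, T_p, T_p] M (Nat.sub (T_ri u) (Nat.mod (T_ri u) M)) (Nat.mod (T_ri u) M) u) (lF [T_pi, T_si, T_si, T_qi, T_u, T_q, T_u, T_qi, T_u, T_q, T_s, T_pi] M (Nat.sub (T_ri u) (Nat.mod (T_ri u) M)) (Nat.mod (T_ri u) M) u) (Nat.ble (nat_lit 25) j)
noncomputable def dp_ri_15 (j u : ℕ) : Bool :=
  Bool.rec (motive := fun _ => Bool) (dp_ri_13 j u) (dp_ri_14 j u) (Nat.ble (nat_lit 24) j)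
noncomputable def dp_ri_16 (j u : ℕ) : Bool :=
  Bool.rec (motive := fun _ => Bool) (dp_ri_12 j u) (dp_ri_15 j u) (Nat.ble (nat_lit 22) j)
noncomputable def dp_ri_17 (j u : ℕ) : Bool :=
  Bool.rec (motive := fun _ => Bool) (dp_ri_11 j u) (dp_ri_16 j u) (Nat.ble (nat_lit 20) j)
noncomputable def dp_ri_18 (j u : ℕ) : Bool :=
  Bool.rec (motive := fun _ => Bool) (dp_ri_9 j u) (dp_ri_17 j u) (Nat.ble (nat_lit 17) j)
noncomputable def dp_ri_19 (j u : ℕ) : Bool :=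
  Bool.rec (motive := fun _ => Bool) (dp_ri_6 j u) (dp_ri_18 j u) (Nat.ble (nat_lit 13) j)
noncomputable def dp_ri_20 (j u : ℕ) : Bool :=
  Bool.rec (motive := fun _ => Bool) (dp_ri_2 j u) (dp_ri_19 j u) (Nat.ble (nat_lit 8) j)
noncomputable def dp_ri_21 (j u : ℕ) : Bool :=
  Bool.rec (motive := fun _ => Bool) (Bool.rec (motive := fun _ => Bool) (lS MG [T_r] M (Nat.sub (T_ri u) (Nat.mod (T_ri u) M)) (nat_lit 40) (Nat.mod (T_ri u) M) u) (lF1 T_r M (Nat.sub (T_ri u) (Nat.mod (T_ri u) M)) (Nat.mod (T_ri u) M) u) (Nat.ble (nat_lit 3) j)) (dp_ri_20 j u) (Nat.ble (nat_lit 4) j)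
noncomputable def disp_ri (j u : ℕ) : Bool :=
  Bool.rec (motive := fun _ => Bool) (Bool.rec (motive := fun _ => Bool) (lDef P (nat_lit 4) u (Nat.mod (T_ri u) M)) (lDef P (nat_lit 5) (Nat.mod (T_ri u) M) u) (Nat.ble (nat_lit 1) j)) (dp_ri_21 j u) (Nat.ble (nat_lit 2) j)
noncomputable def chk_ri (j u : ℕ) : Bool :=
  Bool.rec (motive := fun _ => Bool) (disp_ri j u) (Nat.ble (Nat.succ (MG u)) A) (Nat.ble A (T_ri u))
noncomputable def dp_s_0 (j u : ℕ) : Bool :=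
  Bool.rec (motive := fun _ => Bool) (lS MG [T_u, T_r, T_p, T_ri, T_s, T_s, T_ri, T_u, T_si, T_pi, T_u, T_p] M (Nat.sub (T_s u) (Nat.mod (T_s u) M)) (nat_lit 40) (Nat.mod (T_s u) M) u) (lF [T_q, T_si, T_p, T_ri, T_q, T_q] M (Nat.sub (T_s u) (Nat.mod (T_s u) M)) (Nat.mod (T_s u) M) u) (Nat.ble (nat_lit 7) j)
noncomputable def dp_s_1 (j u : ℕ) : Bool :=
  Bool.rec (motive := fun _ => Bool) (lS MG [T_qi, T_s, T_qi, T_s, T_qi] M (Nat.sub (T_s u) (Nat.mod (T_s u) M)) (nat_lit 40) (Nat.mod (T_s u) M) u) (dp_s_0 j u) (Nat.ble (nat_lit 6) j)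
noncomputable def dp_s_2 (j u : ℕ) : Bool :=
  Bool.rec (motive := fun _ => Bool) (lF [T_qi, T_s, T_qi, T_s, T_qi] M (Nat.sub (T_s u) (Nat.mod (T_s u) M)) (Nat.mod (T_s u) M) u) (dp_s_1 j u) (Nat.ble (nat_lit 5) j)
noncomputable def dp_s_3 (j u : ℕ) : Bool :=
  Bool.rec (motive := fun _ => Bool) (lS MG [T_q, T_si, T_p, T_ri, T_q, T_q] M (Nat.sub (T_s u) (Nat.mod (T_s u) M)) (nat_lit 40) (Nat.mod (T_s u) M) u) (lF [T_q, T_s, T_qi, T_r, T_pi, T_s] M (Nat.sub (T_s u) (Nat.mod (T_s u) M)) (Nat.mod (T_s u) M) u) (Nat.ble (nat_lit 9) j)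
noncomputable def dp_s_4 (j u : ℕ) : Bool :=
  Bool.rec (motive := fun _ => Bool) (lS MG [T_q, T_s, T_qi, T_r, T_pi, T_s] M (Nat.sub (T_s u) (Nat.mod (T_s u) M)) (nat_lit 40) (Nat.mod (T_s u) M) u) (lS MG [T_qi, T_si, T_qi, T_qi, T_r, T_pi] M (Nat.sub (T_s u) (Nat.mod (T_s u) M)) (nat_lit 40) (Nat.mod (T_s u) M) u) (Nat.ble (nat_lit 11) j)
noncomputable def dp_s_5 (j u : ℕ) : Bool :=
  Bool.rec (motive := fun _ => Bool) (dp_s_3 j u) (dp_s_4 j u) (Nat.ble (nat_lit 10) j)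
noncomputable def dp_s_6 (j u : ℕ) : Bool :=
  Bool.rec (motive := fun _ => Bool) (lF [T_qi, T_r, T_pi, T_s, T_s, T_q] M (Nat.sub (T_s u) (Nat.mod (T_s u) M)) (Nat.mod (T_s u) M) u) (lS MG [T_ri, T_p, T_qi, T_p, T_s, T_qi, T_ri] M (Nat.sub (T_s u) (Nat.mod (T_s u) M)) (nat_lit 40) (Nat.mod (T_s u) M) u) (Nat.ble (nat_lit 13) j)
noncomputable def dp_s_7 (j u : ℕ) : Bool :=
  Bool.rec (motive := fun _ => Bool) (lS MG [T_qi, T_p, T_p, T_ri, T_p, T_p, T_qi] M (Nat.sub (T_s u) (Nat.mod (T_s u) M)) (nat_lit 40) (Nat.mod (T_s u) M) u) (lS MG [T_s, T_q, T_s, T_qi, T_r, T_pi] M (Nat.sub (T_s u) (Nat.mod (T_s u) M)) (nat_lit 40) (Nat.mod (T_s u) M) u) (Nat.ble (nat_lit 15) j)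
noncomputable def dp_s_8 (j u : ℕ) : Bool :=
  Bool.rec (motive := fun _ => Bool) (dp_s_6 j u) (dp_s_7 j u) (Nat.ble (nat_lit 14) j)
noncomputable def dp_s_9 (j u : ℕ) : Bool :=
  Bool.rec (motive := fun _ => Bool) (lF [T_qi, T_si, T_qi, T_qi, T_r, T_pi] M (Nat.sub (T_s u) (Nat.mod (T_s u) M)) (Nat.mod (T_s u) M) u) (lF [T_qi, T_p, T_p, T_ri, T_p, T_p, T_qi] M (Nat.sub (T_s u) (Nat.mod (T_s u) M)) (Nat.mod (T_s u) M) u) (Nat.ble (nat_lit 18) j)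
noncomputable def dp_s_10 (j u : ℕ) : Bool :=
  Bool.rec (motive := fun _ => Bool) (lF [T_s, T_q, T_s, T_qi, T_r, T_pi] M (Nat.sub (T_s u) (Nat.mod (T_s u) M)) (Nat.mod (T_s u) M) u) (dp_s_9 j u) (Nat.ble (nat_lit 17) j)
noncomputable def dp_s_11 (j u : ℕ) : Bool :=
  Bool.rec (motive := fun _ => Bool) (lS MG [T_qi, T_r, T_pi, T_s, T_s, T_q] M (Nat.sub (T_s u) (Nat.mod (T_s u) M)) (nat_lit 40) (Nat.mod (T_s u) M) u) (lS MG [T_q, T_pi, T_u, T_qi, T_p, T_p, T_q, T_r, T_s, T_pi, T_pi, T_q, T_u] M (Nat.sub (T_s u) (Nat.mod (T_s u) M)) (nat_lit 40) (Nat.mod (T_s u) M) u) (Nat.ble (nat_lit 23) j)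
noncomputable def dp_s_12 (j u : ℕ) : Bool :=
  Bool.rec (motive := fun _ => Bool) (lH [] [] M (Nat.sub (T_s u) (Nat.mod (T_s u) M)) (Nat.mod (T_s u) M) u) (dp_s_11 j u) (Nat.ble (nat_lit 22) j)
noncomputable def dp_s_13 (j u : ℕ) : Bool :=
  Bool.rec (motive := fun _ => Bool) (lS MG [T_qi, T_ri, T_s, T_ri, T_p, T_qi, T_p] M (Nat.sub (T_s u) (Nat.mod (T_s u) M)) (nat_lit 40) (Nat.mod (T_s u) M) u) (dp_s_12 j u) (Nat.ble (nat_lit 21) j)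
noncomputable def dp_s_14 (j u : ℕ) : Bool :=
  Bool.rec (motive := fun _ => Bool) (lF [T_ri, T_p, T_qi, T_p, T_s, T_qi, T_ri] M (Nat.sub (T_s u) (Nat.mod (T_s u) M)) (Nat.mod (T_s u) M) u) (dp_s_13 j u) (Nat.ble (nat_lit 20) j)
noncomputable def dp_s_15 (j u : ℕ) : Bool :=
  Bool.rec (motive := fun _ => Bool) (dp_s_10 j u) (dp_s_14 j u) (Nat.ble (nat_lit 19) j)
noncomputable def dp_s_16 (j u : ℕ) : Bool :=
  Bool.rec (motive := fun _ => Bool) (dp_s_8 j u) (dp_s_15 j u) (Nat.ble (nat_lit 16) j)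
noncomputable def dp_s_17 (j u : ℕ) : Bool :=
  Bool.rec (motive := fun _ => Bool) (dp_s_5 j u) (dp_s_16 j u) (Nat.ble (nat_lit 12) j)
noncomputable def dp_s_18 (j u : ℕ) : Bool :=
  Bool.rec (motive := fun _ => Bool) (dp_s_2 j u) (dp_s_17 j u) (Nat.ble (nat_lit 8) j)
noncomputable def dp_s_19 (j u : ℕ) : Bool :=
  Bool.rec (motive := fun _ => Bool) (lF1 T_si M (Nat.sub (T_s u) (Nat.mod (T_s u) M)) (Nat.mod (T_s u) M) u) (dp_s_18 j u) (Nat.ble (nat_lit 4) j)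
noncomputable def disp_s (j u : ℕ) : Bool :=
  Bool.rec (motive := fun _ => Bool) (Bool.rec (motive := fun _ => Bool) (lDef P (nat_lit 6) (Nat.mod (T_s u) M) u) (lDef P (nat_lit 7) u (Nat.mod (T_s u) M)) (Nat.ble (nat_lit 1) j)) (Bool.rec (motive := fun _ => Bool) (lS MG [T_si] M (Nat.sub (T_s u) (Nat.mod (T_s u) M)) (nat_lit 40) (Nat.mod (T_s u) M) u) (dp_s_19 j u) (Nat.ble (nat_lit 3) j)) (Nat.ble (nat_lit 2) j)
noncomputable def chk_s (j u : ℕ) : Bool :=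
  Bool.rec (motive := fun _ => Bool) (disp_s j u) (Nat.ble (Nat.succ (MG u)) A) (Nat.ble A (T_s u))
noncomputable def dp_si_0 (j u : ℕ) : Bool :=
  Bool.rec (motive := fun _ => Bool) (lS MG [T_q, T_si, T_q, T_si, T_q] M (Nat.sub (T_si u) (Nat.mod (T_si u) M)) (nat_lit 40) (Nat.mod (T_si u) M) u) (lF [T_q, T_si, T_q, T_si, T_q] M (Nat.sub (T_si u) (Nat.mod (T_si u) M)) (Nat.mod (T_si u) M) u) (Nat.ble (nat_lit 5) j)
noncomputable def dp_si_1 (j u : ℕ) : Bool :=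
  Bool.rec (motive := fun _ => Bool) (lF [T_qi, T_qi, T_r, T_pi, T_s, T_qi] M (Nat.sub (T_si u) (Nat.mod (T_si u) M)) (Nat.mod (T_si u) M) u) (lS MG [T_si, T_p, T_ri, T_q, T_si, T_qi] M (Nat.sub (T_si u) (Nat.mod (T_si u) M)) (nat_lit 40) (Nat.mod (T_si u) M) u) (Nat.ble (nat_lit 7) j)
noncomputable def dp_si_2 (j u : ℕ) : Bool :=
  Bool.rec (motive := fun _ => Bool) (dp_si_0 j u) (dp_si_1 j u) (Nat.ble (nat_lit 6) j)
noncomputable def dp_si_3 (j u : ℕ) : Bool :=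
  Bool.rec (motive := fun _ => Bool) (lF [T_si, T_p, T_ri, T_q, T_si, T_qi] M (Nat.sub (T_si u) (Nat.mod (T_si u) M)) (Nat.mod (T_si u) M) u) (lS MG [T_p, T_ri, T_q, T_q, T_s, T_q] M (Nat.sub (T_si u) (Nat.mod (T_si u) M)) (nat_lit 40) (Nat.mod (T_si u) M) u) (Nat.ble (nat_lit 9) j)
noncomputable def dp_si_4 (j u : ℕ) : Bool :=
  Bool.rec (motive := fun _ => Bool) (lF [T_p, T_ri, T_q, T_q, T_s, T_q] M (Nat.sub (T_si u) (Nat.mod (T_si u) M)) (Nat.mod (T_si u) M) u) (lS MG [T_qi, T_qi, T_r, T_pi, T_s, T_qi] M (Nat.sub (T_si u) (Nat.mod (T_si u) M)) (nat_lit 40) (Nat.mod (T_si u) M) u) (Nat.ble (nat_lit 11) j)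
noncomputable def dp_si_5 (j u : ℕ) : Bool :=
  Bool.rec (motive := fun _ => Bool) (dp_si_3 j u) (dp_si_4 j u) (Nat.ble (nat_lit 10) j)
noncomputable def dp_si_6 (j u : ℕ) : Bool :=
  Bool.rec (motive := fun _ => Bool) (lS MG [T_q, T_pi, T_pi, T_r, T_pi, T_pi, T_q] M (Nat.sub (T_si u) (Nat.mod (T_si u) M)) (nat_lit 40) (Nat.mod (T_si u) M) u) (lS MG [T_qi, T_si, T_si, T_p, T_ri, T_q] M (Nat.sub (T_si u) (Nat.mod (T_si u) M)) (nat_lit 40) (Nat.mod (T_si u) M) u) (Nat.ble (nat_lit 13) j)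
noncomputable def dp_si_7 (j u : ℕ) : Bool :=
  Bool.rec (motive := fun _ => Bool) (lF [T_p, T_ri, T_q, T_si, T_qi, T_si] M (Nat.sub (T_si u) (Nat.mod (T_si u) M)) (Nat.mod (T_si u) M) u) (lF [T_r, T_q, T_si, T_pi, T_q, T_pi, T_r] M (Nat.sub (T_si u) (Nat.mod (T_si u) M)) (Nat.mod (T_si u) M) u) (Nat.ble (nat_lit 15) j)
noncomputable def dp_si_8 (j u : ℕ) : Bool :=
  Bool.rec (motive := fun _ => Bool) (dp_si_6 j u) (dp_si_7 j u) (Nat.ble (nat_lit 14) j)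
noncomputable def dp_si_9 (j u : ℕ) : Bool :=
  Bool.rec (motive := fun _ => Bool) (lS MG [T_pi, T_u, T_p, T_s, T_u, T_r, T_p, T_ri, T_s, T_s, T_ri, T_u] M (Nat.sub (T_si u) (Nat.mod (T_si u) M)) (nat_lit 40) (Nat.mod (T_si u) M) u) (lS MG [T_r, T_q, T_si, T_pi, T_q, T_pi, T_r] M (Nat.sub (T_si u) (Nat.mod (T_si u) M)) (nat_lit 40) (Nat.mod (T_si u) M) u) (Nat.ble (nat_lit 17) j)
noncomputable def dp_si_10 (j u : ℕ) : Bool :=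
  Bool.rec (motive := fun _ => Bool) (lS MG [T_pi, T_u, T_p, T_s, T_u, T_r, T_si, T_si, T_r, T_pi, T_ri, T_u] M (Nat.sub (T_si u) (Nat.mod (T_si u) M)) (nat_lit 40) (Nat.mod (T_si u) M) u) (lS MG [T_qi, T_u, T_q, T_u, T_qi, T_u, T_q, T_s, T_s, T_p, T_r, T_p] M (Nat.sub (T_si u) (Nat.mod (T_si u) M)) (nat_lit 40) (Nat.mod (T_si u) M) u) (Nat.ble (nat_lit 21) j)
noncomputable def dp_si_11 (j u : ℕ) : Bool :=
  Bool.rec (motive := fun _ => Bool) (lF [T_qi, T_si, T_si, T_p, T_ri, T_q] M (Nat.sub (T_si u) (Nat.mod (T_si u) M)) (Nat.mod (T_si u) M) u) (dp_si_10 j u) (Nat.ble (nat_lit 20) j)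
noncomputable def dp_si_12 (j u : ℕ) : Bool :=
  Bool.rec (motive := fun _ => Bool) (lS MG [T_p, T_ri, T_q, T_si, T_qi, T_si] M (Nat.sub (T_si u) (Nat.mod (T_si u) M)) (nat_lit 40) (Nat.mod (T_si u) M) u) (dp_si_11 j u) (Nat.ble (nat_lit 19) j)
noncomputable def dp_si_13 (j u : ℕ) : Bool :=
  Bool.rec (motive := fun _ => Bool) (dp_si_9 j u) (dp_si_12 j u) (Nat.ble (nat_lit 18) j)
noncomputable def dp_si_14 (j u : ℕ) : Bool :=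
  Bool.rec (motive := fun _ => Bool) (dp_si_8 j u) (dp_si_13 j u) (Nat.ble (nat_lit 16) j)
noncomputable def dp_si_15 (j u : ℕ) : Bool :=
  Bool.rec (motive := fun _ => Bool) (dp_si_5 j u) (dp_si_14 j u) (Nat.ble (nat_lit 12) j)
noncomputable def dp_si_16 (j u : ℕ) : Bool :=
  Bool.rec (motive := fun _ => Bool) (dp_si_2 j u) (dp_si_15 j u) (Nat.ble (nat_lit 8) j)
noncomputable def disp_si (j u : ℕ) : Bool :=
  Bool.rec (motive := fun _ => Bool) (Bool.rec (motive := fun _ => Bool) (lDef P (nat_lit 6) u (Nat.mod (T_si u) M)) (lDef P (nat_lit 7) (Nat.mod (T_si u) M) u) (Nat.ble (nat_lit 1) j)) (Bool.rec (motive := fun _ => Bool) (Bool.rec (motive := fun _ => Bool) (lS MG [T_s] M (Nat.sub (T_si u) (Nat.mod (T_si u) M)) (nat_lit 40) (Nat.mod (T_si u) M) u) (lF1 T_s M (Nat.sub (T_si u) (Nat.mod (T_si u) M)) (Nat.mod (T_si u) M) u) (Nat.ble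 (nat_lit 3) j)) (dp_si_16 j u) (Nat.ble (nat_lit 4) j)) (Nat.ble (nat_lit 2) j)
noncomputable def chk_si (j u : ℕ) : Bool :=
  Bool.rec (motive := fun _ => Bool) (disp_si j u) (Nat.ble (Nat.succ (MG u)) A) (Nat.ble A (T_si u))
noncomputable def dp_u_0 (j u : ℕ) : Bool :=
  Bool.rec (motive := fun _ => Bool) (lS MG [T_qi, T_u, T_q, T_s, T_s, T_p, T_r, T_p, T_si, T_qi, T_u, T_q] M (Nat.sub (T_u u) (Nat.mod (T_u u) M)) (nat_lit 40) (Nat.mod (T_u u) M) u) (lS MG [T_qi, T_pi, T_qi, T_r, T_q, T_u, T_r, T_q, T_s, T_p, T_si, T_ri] M (Nat.sub (T_u u) (Nat.mod (T_u u) M)) (nat_lit 40) (Nat.mod (T_u u) M) u) (Nat.ble (nat_lit 5) j)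
noncomputable def dp_u_1 (j u : ℕ) : Bool :=
  Bool.rec (motive := fun _ => Bool) (lS MG [T_q, T_s, T_s, T_p, T_r, T_p, T_si, T_qi, T_u, T_q, T_u, T_qi] M (Nat.sub (T_u u) (Nat.mod (T_u u) M)) (nat_lit 40) (Nat.mod (T_u u) M) u) (lS MG [T_r, T_q, T_s, T_p, T_si, T_ri, T_u, T_qi, T_pi, T_qi, T_r, T_q] M (Nat.sub (T_u u) (Nat.mod (T_u u) M)) (nat_lit 40) (Nat.mod (T_u u) M) u) (Nat.ble (nat_lit 7) j)
noncomputable def dp_u_2 (j u : ℕ) : Bool :=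
  Bool.rec (motive := fun _ => Bool) (lS MG [T_r, T_s, T_pi, T_si, T_qi, T_ri, T_u, T_qi, T_ri, T_q, T_p, T_q] M (Nat.sub (T_u u) (Nat.mod (T_u u) M)) (nat_lit 40) (Nat.mod (T_u u) M) u) (lS MG [T_qi, T_ri, T_q, T_p, T_q, T_u, T_r, T_s, T_pi, T_si, T_qi, T_ri] M (Nat.sub (T_u u) (Nat.mod (T_u u) M)) (nat_lit 40) (Nat.mod (T_u u) M) u) (Nat.ble (nat_lit 9) j)
noncomputable def dp_u_3 (j u : ℕ) : Bool :=
  Bool.rec (motive := fun _ => Bool) (dp_u_1 j u) (dp_u_2 j u) (Nat.ble (nat_lit 8) j)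
noncomputable def dp_u_4 (j u : ℕ) : Bool :=
  Bool.rec (motive := fun _ => Bool) (dp_u_0 j u) (dp_u_3 j u) (Nat.ble (nat_lit 6) j)
noncomputable def dp_u_5 (j u : ℕ) : Bool :=
  Bool.rec (motive := fun _ => Bool) (lS MG [T_qi, T_u, T_q, T_s, T_pi, T_ri, T_pi, T_si, T_si, T_qi, T_u, T_q] M (Nat.sub (T_u u) (Nat.mod (T_u u) M)) (nat_lit 40) (Nat.mod (T_u u) M) u) (lS MG [T_q, T_u, T_qi, T_u, T_q, T_s, T_s, T_p, T_r, T_p, T_si, T_qi] M (Nat.sub (T_u u) (Nat.mod (T_u u) M)) (nat_lit 40) (Nat.mod (T_u u) M) u) (Nat.ble (nat_lit 12) j)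
noncomputable def dp_u_6 (j u : ℕ) : Bool :=
  Bool.rec (motive := fun _ => Bool) (lS MG [T_q, T_s, T_pi, T_ri, T_pi, T_si, T_si, T_qi, T_u, T_q, T_u, T_qi] M (Nat.sub (T_u u) (Nat.mod (T_u u) M)) (nat_lit 40) (Nat.mod (T_u u) M) u) (dp_u_5 j u) (Nat.ble (nat_lit 11) j)
noncomputable def dp_u_7 (j u : ℕ) : Bool :=
  Bool.rec (motive := fun _ => Bool) (lS MG [T_qi, T_u, T_pi, T_u, T_p, T_p, T_ri, T_q, T_u, T_p, T_u, T_q] M (Nat.sub (T_u u) (Nat.mod (T_u u) M)) (nat_lit 40) (Nat.mod (T_u u) M) u) (lF [T_q, T_s, T_s, T_p, T_r, T_p, T_si, T_qi, T_u, T_q, T_u, T_qi] M (Nat.sub (T_u u) (Nat.mod (T_u u) M)) (Nat.mod (T_u u) M) u) (Nat.ble (nat_lit 14) j)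
noncomputable def dp_u_8 (j u : ℕ) : Bool :=
  Bool.rec (motive := fun _ => Bool) (lS MG [T_r, T_p, T_ri, T_s, T_s, T_ri, T_u, T_si, T_pi, T_u, T_p, T_s] M (Nat.sub (T_u u) (Nat.mod (T_u u) M)) (nat_lit 40) (Nat.mod (T_u u) M) u) (lF [T_p, T_s, T_u, T_r, T_p, T_ri, T_s, T_s, T_ri, T_u, T_si, T_pi] M (Nat.sub (T_u u) (Nat.mod (T_u u) M)) (Nat.mod (T_u u) M) u) (Nat.ble (nat_lit 16) j)
noncomputable def dp_u_9 (j u : ℕ) : Bool :=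
  Bool.rec (motive := fun _ => Bool) (dp_u_7 j u) (dp_u_8 j u) (Nat.ble (nat_lit 15) j)
noncomputable def dp_u_10 (j u : ℕ) : Bool :=
  Bool.rec (motive := fun _ => Bool) (dp_u_6 j u) (dp_u_9 j u) (Nat.ble (nat_lit 13) j)
noncomputable def dp_u_11 (j u : ℕ) : Bool :=
  Bool.rec (motive := fun _ => Bool) (lS MG [T_qi, T_u, T_pi, T_u, T_qi, T_r, T_pi, T_pi, T_u, T_p, T_u, T_q] M (Nat.sub (T_u u) (Nat.mod (T_u u) M)) (nat_lit 40) (Nat.mod (T_u u) M) u) (lS MG [T_p, T_p, T_ri, T_q, T_u, T_p, T_u, T_q, T_u, T_qi, T_u, T_pi] M (Nat.sub (T_u u) (Nat.mod (T_u u) M)) (nat_lit 40) (Nat.mod (T_u u) M) u) (Nat.ble (nat_lit 19) j)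
noncomputable def dp_u_12 (j u : ℕ) : Bool :=
  Bool.rec (motive := fun _ => Bool) (lF [T_qi, T_u, T_pi, T_u, T_p, T_p, T_ri, T_q, T_u, T_p, T_u, T_q] M (Nat.sub (T_u u) (Nat.mod (T_u u) M)) (Nat.mod (T_u u) M) u) (dp_u_11 j u) (Nat.ble (nat_lit 18) j)
noncomputable def dp_u_13 (j u : ℕ) : Bool :=
  Bool.rec (motive := fun _ => Bool) (lS MG [T_r, T_si, T_si, T_r, T_pi, T_ri, T_u, T_si, T_pi, T_u, T_p, T_s] M (Nat.sub (T_u u) (Nat.mod (T_u u) M)) (nat_lit 40) (Nat.mod (T_u u) M) u) (lS MG [T_q, T_u, T_qi, T_u, T_q, T_s, T_pi, T_ri, T_pi, T_si, T_si, T_qi] M (Nat.sub (T_u u) (Nat.mod (T_u u) M)) (nat_lit 40) (Nat.mod (T_u u) M) u) (Nat.ble (nat_lit 22) j)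
noncomputable def dp_u_14 (j u : ℕ) : Bool :=
  Bool.rec (motive := fun _ => Bool) (lS MG [T_si, T_pi, T_u, T_p, T_s, T_u, T_r, T_si, T_si, T_r, T_pi, T_ri] M (Nat.sub (T_u u) (Nat.mod (T_u u) M)) (nat_lit 40) (Nat.mod (T_u u) M) u) (dp_u_13 j u) (Nat.ble (nat_lit 21) j)
noncomputable def dp_u_15 (j u : ℕ) : Bool :=
  Bool.rec (motive := fun _ => Bool) (dp_u_12 j u) (dp_u_14 j u) (Nat.ble (nat_lit 20) j)
noncomputable def dp_u_16 (j u : ℕ) : Bool :=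
  Bool.rec (motive := fun _ => Bool) (lS MG [T_q, T_u, T_qi, T_u, T_pi, T_u, T_p, T_p, T_ri, T_q, T_u, T_p] M (Nat.sub (T_u u) (Nat.mod (T_u u) M)) (nat_lit 40) (Nat.mod (T_u u) M) u) (lF [T_qi, T_u, T_q, T_s, T_s, T_p, T_r, T_p, T_si, T_qi, T_u, T_q] M (Nat.sub (T_u u) (Nat.mod (T_u u) M)) (Nat.mod (T_u u) M) u) (Nat.ble (nat_lit 24) j)
noncomputable def dp_u_17 (j u : ℕ) : Bool :=
  Bool.rec (motive := fun _ => Bool) (lS MG [T_qi, T_r, T_pi, T_pi, T_u, T_p, T_u, T_q, T_u, T_qi, T_u, T_pi] M (Nat.sub (T_u u) (Nat.mod (T_u u) M)) (nat_lit 40) (Nat.mod (T_u u) M) u) (lS MG [T_p, T_u, T_q, T_u, T_qi, T_u, T_pi, T_u, T_qi, T_r, T_pi, T_pi] M (Nat.sub (T_u u) (Nat.mod (T_u u) M)) (nat_lit 40) (Nat.mod (T_u u) M) u) (Nat.ble (nat_lit 26) j)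
noncomputable def dp_u_18 (j u : ℕ) : Bool :=
  Bool.rec (motive := fun _ => Bool) (lS MG [T_p, T_s, T_u, T_r, T_p, T_ri, T_s, T_s, T_ri, T_u, T_si, T_pi] M (Nat.sub (T_u u) (Nat.mod (T_u u) M)) (nat_lit 40) (Nat.mod (T_u u) M) u) (lS MG [T_pi, T_u, T_p, T_p, T_ri, T_q, T_u, T_p, T_u, T_q, T_u, T_qi] M (Nat.sub (T_u u) (Nat.mod (T_u u) M)) (nat_lit 40) (Nat.mod (T_u u) M) u) (Nat.ble (nat_lit 28) j)
noncomputable def dp_u_19 (j u : ℕ) : Bool :=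
  Bool.rec (motive := fun _ => Bool) (dp_u_17 j u) (dp_u_18 j u) (Nat.ble (nat_lit 27) j)
noncomputable def dp_u_20 (j u : ℕ) : Bool :=
  Bool.rec (motive := fun _ => Bool) (dp_u_16 j u) (dp_u_19 j u) (Nat.ble (nat_lit 25) j)
noncomputable def dp_u_21 (j u : ℕ) : Bool :=
  Bool.rec (motive := fun _ => Bool) (lS MG [T_si, T_pi, T_u, T_p, T_s, T_u, T_r, T_p, T_ri, T_s, T_s, T_ri] M (Nat.sub (T_u u) (Nat.mod (T_u u) M)) (nat_lit 40) (Nat.mod (T_u u) M) u) (lF [T_qi, T_u, T_q, T_s, T_pi, T_ri, T_pi, T_si, T_si, T_qi, T_u, T_q] M (Nat.sub (T_u u) (Nat.mod (T_u u) M)) (Nat.mod (T_u u) M) u) (Nat.ble (nat_lit 31) j)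
noncomputable def dp_u_22 (j u : ℕ) : Bool :=
  Bool.rec (motive := fun _ => Bool) (lS MG [T_p, T_qi, T_si, T_u, T_qi, T_p, T_p, T_si, T_ri, T_qi, T_pi, T_pi, T_q] M (Nat.sub (T_u u) (Nat.mod (T_u u) M)) (nat_lit 40) (Nat.mod (T_u u) M) u) (dp_u_21 j u) (Nat.ble (nat_lit 30) j)
noncomputable def dp_u_23 (j u : ℕ) : Bool :=
  Bool.rec (motive := fun _ => Bool) (lF [T_si, T_pi, T_u, T_p, T_s, T_u, T_r, T_si, T_si, T_r, T_pi, T_ri] M (Nat.sub (T_u u) (Nat.mod (T_u u) M)) (Nat.mod (T_u u) M) u) (lF [T_qi, T_ri, T_q, T_p, T_q, T_u, T_r, T_s, T_pi, T_si, T_qi, T_ri] M (Nat.sub (T_u u) (Nat.mod (T_u u) M)) (Nat.mod (T_u u) M) u) (Nat.ble (nat_lit 33) j)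
noncomputable def dp_u_24 (j u : ℕ) : Bool :=
  Bool.rec (motive := fun _ => Bool) (lF [T_qi, T_pi, T_qi, T_r, T_q, T_u, T_r, T_q, T_s, T_p, T_si, T_ri] M (Nat.sub (T_u u) (Nat.mod (T_u u) M)) (Nat.mod (T_u u) M) u) (lF [T_r, T_p, T_ri, T_s, T_s, T_ri, T_u, T_si, T_pi, T_u, T_p, T_s] M (Nat.sub (T_u u) (Nat.mod (T_u u) M)) (Nat.mod (T_u u) M) u) (Nat.ble (nat_lit 35) j)
noncomputable def dp_u_25 (j u : ℕ) : Bool :=
  Bool.rec (motive := fun _ => Bool) (dp_u_23 j u) (dp_u_24 j u) (Nat.ble (nat_lit 34) j)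
noncomputable def dp_u_26 (j u : ℕ) : Bool :=
  Bool.rec (motive := fun _ => Bool) (dp_u_22 j u) (dp_u_25 j u) (Nat.ble (nat_lit 32) j)
noncomputable def dp_u_27 (j u : ℕ) : Bool :=
  Bool.rec (motive := fun _ => Bool) (dp_u_20 j u) (dp_u_26 j u) (Nat.ble (nat_lit 29) j)
noncomputable def dp_u_28 (j u : ℕ) : Bool :=
  Bool.rec (motive := fun _ => Bool) (dp_u_15 j u) (dp_u_27 j u) (Nat.ble (nat_lit 23) j)
noncomputable def dp_u_29 (j u : ℕ) : Bool :=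
  Bool.rec (motive := fun _ => Bool) (dp_u_10 j u) (dp_u_28 j u) (Nat.ble (nat_lit 17) j)
noncomputable def dp_u_30 (j u : ℕ) : Bool :=
  Bool.rec (motive := fun _ => Bool) (dp_u_4 j u) (dp_u_29 j u) (Nat.ble (nat_lit 10) j)
noncomputable def dp_u_31 (j u : ℕ) : Bool :=
  Bool.rec (motive := fun _ => Bool) (Bool.rec (motive := fun _ => Bool) (lS MG [T_u] M (Nat.sub (T_u u) (Nat.mod (T_u u) M)) (nat_lit 40) (Nat.mod (T_u u) M) u) (lF1 T_u M (Nat.sub (T_u u) (Nat.mod (T_u u) M)) (Nat.mod (T_u u) M) u) (Nat.ble (nat_lit 3) j)) (dp_u_30 j u) (Nat.ble (nat_lit 4) j)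
noncomputable def disp_u (j u : ℕ) : Bool :=
  Bool.rec (motive := fun _ => Bool) (Bool.rec (motive := fun _ => Bool) (lDef P (nat_lit 8) (Nat.mod (T_u u) M) u) (lDef P (nat_lit 8) u (Nat.mod (T_u u) M)) (Nat.ble (nat_lit 1) j)) (dp_u_31 j u) (Nat.ble (nat_lit 2) j)
noncomputable def chk_u (j u : ℕ) : Bool :=
  Bool.rec (motive := fun _ => Bool) (disp_u j u) (Nat.ble (Nat.succ (MG u)) A) (Nat.ble A (T_u u))
noncomputable def dM_0 (j z1 z2 u : ℕ) : Bool :=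
  Bool.rec (motive := fun _ => Bool) (Bool.rec (motive := fun _ => Bool) (mCo MG T_qi M (Nat.sub (MG u) (Nat.mod (MG u) M)) (nat_lit 40) z1 z2 u (Nat.mod (MG u) M)) (Bool.rec (motive := fun _ => Bool) (mCo MG T_q M (Nat.sub (MG u) (Nat.mod (MG u) M)) (nat_lit 40) z1 z2 u (Nat.mod (MG u) M)) (mCo MG T_si M (Nat.sub (MG u) (Nat.mod (MG u) M)) (nat_lit 40) z1 z2 u (Nat.mod (MG u) M)) (Nat.ble (nat_lit 2) j)) (Nat.ble (nat_lit 1) j)) (Bool.rec (motive := fun _ => Bool) (mCo MG T_s M (Nat.sub (MG u) (Nat.mod (MG u) M)) (nat_lit 40) z1 z2 u (Nat.mod (MG u) M)) (Bool.rec (motive := fun _ => Bool) (mCo MG T_pi M (Nat.sub (MG u) (Nat.mod (MG u) M)) (nat_lit 40) z1 z2 u (Nat.mod (MG u) M)) (mCo MG T_p M (Nat.sub (MG u) (Nat.mod (MG u) M)) (nat_lit 40) z1 z2 u (Nat.mod (MG u) M)) (Nat.ble (nat_lit 5) j)) (Nat.ble (nat_lit 4) j)) (Nat.ble (nat_lit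 3) j)
noncomputable def dM_1 (j z1 z2 u : ℕ) : Bool :=
  Bool.rec (motive := fun _ => Bool) (mCo MG T_ri M (Nat.sub (MG u) (Nat.mod (MG u) M)) (nat_lit 40) z1 z2 u (Nat.mod (MG u) M)) (mCo MG T_r M (Nat.sub (MG u) (Nat.mod (MG u) M)) (nat_lit 40) z1 z2 u (Nat.mod (MG u) M)) (Nat.ble (nat_lit 7) j)
noncomputable def dM_2 (j z1 z2 u : ℕ) : Bool :=
  Bool.rec (motive := fun _ => Bool) (mCo MG T_u M (Nat.sub (MG u) (Nat.mod (MG u) M)) (nat_lit 40) z1 z2 u (Nat.mod (MG u) M)) (Bool.rec (motive := fun _ => Bool) (Bool.rec (motive := fun _ => Bool) (Bool.rec (motive := fun _ => Bool) (mRel MG [T_p, T_ri] [T_s, T_qi, T_si, T_qi, T_qi] M (Nat.sub (MG u) (Nat.mod (MG u) M)) (nat_lit 40) z1 u (Nat.mod (MG u) M)) (mRel MG [T_qi, T_r, T_pi, T_pi, T_qi, T_r] [T_pi, T_pi] M (Nat.sub (MG u) (Nat.mod (MG u) M)) (nat_lit 40) z1 u (Nat.mod (MG u) M)) (Nat.ble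 (nat_lit 10) j)) (Bool.rec (motive := fun _ => Bool) (mRel MG [T_r, T_pi] [T_q, T_q, T_s, T_q, T_si] M (Nat.sub (MG u) (Nat.mod (MG u) M)) (nat_lit 40) z1 u (Nat.mod (MG u) M)) (mRel MG [T_qi, T_qi, T_qi] [T_q, T_q] M (Nat.sub (MG u) (Nat.mod (MG u) M)) (nat_lit 40) z1 u (Nat.mod (MG u) M)) (Nat.ble (nat_lit 12) j)) (Nat.ble (nat_lit 11) j)) (Bool.rec (motive := fun _ => Bool) (Bool.rec (motive := fun _ => Bool) (mRel MG [T_q, T_q, T_q] [T_qi, T_qi] M (Nat.sub (MG u) (Nat.mod (MG u) M)) (nat_lit 40) z1 u (Nat.mod (MG u) M)) (Bool.rec (motive := fun _ => Bool) (mRel MG [T_s, T_qi, T_si, T_qi, T_qi] [T_p, T_ri] M (Nat.sub (MG u) (Nat.mod (MG u) M)) (nat_lit 40) z1 u (Nat.mod (MG u) M)) (mRel MG [T_q, T_si, T_q, T_pi] [T_p, T_p, T_ri, T_p] M (Nat.sub (MG u) (Nat.mod (MG u) M)) (nat_lit 40) z1 u (Nat.mod (MG u) M)) (Nat.ble (nat_lit 15) j))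 (Nat.ble (nat_lit 14) j)) (Bool.rec (motive := fun _ => Bool) (mRel MG [T_q, T_q] [T_qi, T_qi, T_qi] M (Nat.sub (MG u) (Nat.mod (MG u) M)) (nat_lit 40) z1 u (Nat.mod (MG u) M)) (Bool.rec (motive := fun _ => Bool) (mRel MG [T_p, T_ri, T_q, T_q] [T_s, T_qi, T_si] M (Nat.sub (MG u) (Nat.mod (MG u) M)) (nat_lit 40) z1 u (Nat.mod (MG u) M)) (mRel MG [T_q, T_s, T_q, T_si, T_p] [T_qi, T_r] M (Nat.sub (MG u) (Nat.mod (MG u) M)) (nat_lit 40) z1 u (Nat.mod (MG u) M)) (Nat.ble (nat_lit 18) j)) (Nat.ble (nat_lit 17) j)) (Nat.ble (nat_lit 16) j)) (Nat.ble (nat_lit 13) j)) (Nat.ble (nat_lit 9) j)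
noncomputable def dM_3 (j z1 z2 u : ℕ) : Bool :=
  Bool.rec (motive := fun _ => Bool) (Bool.rec (motive := fun _ => Bool) (mRel MG [T_si, T_p, T_ri] [T_qi, T_si, T_qi, T_qi] M (Nat.sub (MG u) (Nat.mod (MG u) M)) (nat_lit 40) z1 u (Nat.mod (MG u) M)) (Bool.rec (motive := fun _ => Bool) (mRel MG [T_pi, T_si, T_qi, T_ri, T_u, T_qi, T_ri, T_q, T_p, T_q, T_u] [T_si, T_ri] M (Nat.sub (MG u) (Nat.mod (MG u) M)) (nat_lit 40) z1 u (Nat.mod (MG u) M)) (mRel MG [T_q, T_si, T_pi, T_q, T_pi, T_r] [T_ri, T_s] M (Nat.sub (MG u) (Nat.mod (MG u) M)) (nat_lit 40) z1 u (Nat.mod (MG u) M)) (Nat.ble (nat_lit 21) j)) (Nat.ble (nat_lit 20) j)) (Bool.rec (motive := fun _ => Bool) (Bool.rec (motive := fun _ => Bool) (mRel MG [T_qi, T_p, T_p, T_ri] [T_si, T_q, T_pi, T_pi] M (Nat.sub (MG u) (Nat.mod (MG u) M)) (nat_lit 40) z1 u (Nat.mod (MG u) M)) (mRel MG [T_si,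 T_q, T_si, T_q] [T_qi, T_s] M (Nat.sub (MG u) (Nat.mod (MG u) M)) (nat_lit 40) z1 u (Nat.mod (MG u) M)) (Nat.ble (nat_lit 23) j)) (Bool.rec (motive := fun _ => Bool) (mRel MG [T_r, T_pi, T_s] [T_q, T_q, T_s, T_q] M (Nat.sub (MG u) (Nat.mod (MG u) M)) (nat_lit 40) z1 u (Nat.mod (MG u) M)) (mRel MG [T_si, T_si, T_p, T_ri] [T_q, T_s, T_qi] M (Nat.sub (MG u) (Nat.mod (MG u) M)) (nat_lit 40) z1 u (Nat.mod (MG u) M)) (Nat.ble (nat_lit 25) j)) (Nat.ble (nat_lit 24) j)) (Nat.ble (nat_lit 22) j)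
noncomputable def dM_4 (j z1 z2 u : ℕ) : Bool :=
  Bool.rec (motive := fun _ => Bool) (Bool.rec (motive := fun _ => Bool) (mRel MG [T_pi, T_r, T_si] [T_qi, T_p, T_s, T_qi, T_ri] M (Nat.sub (MG u) (Nat.mod (MG u) M)) (nat_lit 40) z1 u (Nat.mod (MG u) M)) (Bool.rec (motive := fun _ => Bool) (mRel MG [T_p, T_s, T_qi, T_ri, T_s, T_ri] [T_q, T_pi] M (Nat.sub (MG u) (Nat.mod (MG u) M)) (nat_lit 40) z1 u (Nat.mod (MG u) M)) (mRel MG [T_r, T_pi, T_pi, T_q, T_si, T_q] [T_p, T_p] M (Nat.sub (MG u) (Nat.mod (MG u) M)) (nat_lit 40) z1 u (Nat.mod (MG u) M)) (Nat.ble (nat_lit 28) j)) (Nat.ble (nat_lit 27) j)) (Bool.rec (motive := fun _ => Bool) (Bool.rec (motive := fun _ => Bool) (mRel MG [T_pi, T_si, T_qi, T_ri, T_u] [T_si, T_ri, T_u, T_qi, T_pi, T_qi, T_r, T_q] M (Nat.sub (MG u) (Nat.mod (MG u) M)) (nat_lit 40) z1 u (Nat.mod (MG u) M)) (mRel MG [T_ri,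 T_s, T_ri] [T_q, T_si, T_pi, T_q, T_pi] M (Nat.sub (MG u) (Nat.mod (MG u) M)) (nat_lit 40) z1 u (Nat.mod (MG u) M)) (Nat.ble (nat_lit 30) j)) (Bool.rec (motive := fun _ => Bool) (mRel MG [T_p, T_ri, T_q] [T_pi, T_qi, T_r, T_pi, T_pi] M (Nat.sub (MG u) (Nat.mod (MG u) M)) (nat_lit 40) z1 u (Nat.mod (MG u) M)) (mRel MG [T_p, T_ri, T_p] [T_pi, T_q, T_si, T_q, T_pi] M (Nat.sub (MG u) (Nat.mod (MG u) M)) (nat_lit 40) z1 u (Nat.mod (MG u) M)) (Nat.ble (nat_lit 32) j)) (Nat.ble (nat_lit 31) j)) (Nat.ble (nat_lit 29) j)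
noncomputable def dM_5 (j z1 z2 u : ℕ) : Bool :=
  Bool.rec (motive := fun _ => Bool) (dM_3 j z1 z2 u) (dM_4 j z1 z2 u) (Nat.ble (nat_lit 26) j)
noncomputable def dM_6 (j z1 z2 u : ℕ) : Bool :=
  Bool.rec (motive := fun _ => Bool) (Bool.rec (motive := fun _ => Bool) (Bool.rec (motive := fun _ => Bool) (mRel MG [T_p, T_p, T_ri, T_q] [T_qi, T_r, T_p, T_p] M (Nat.sub (MG u) (Nat.mod (MG u) M)) (nat_lit 40) z1 u (Nat.mod (MG u) M)) (mRel MG [T_q, T_q, T_s, T_q, T_si] [T_r, T_pi] M (Nat.sub (MG u) (Nat.mod (MG u) M)) (nat_lit 40) z1 u (Nat.mod (MG u) M)) (Nat.ble (nat_lit 34) j)) (Bool.rec (motive := fun _ => Bool) (mRel MG [T_s, T_qi, T_si, T_qi, T_qi, T_r] [T_p] M (Nat.sub (MG u) (Nat.mod (MG u) M)) (nat_lit 40) z1 u (Nat.mod (MG u) M)) (mRel MG [T_s, T_qi] [T_q, T_si, T_q, T_si] M (Nat.sub (MG u) (Nat.mod (MG u) M)) (nat_lit 40) z1 u (Nat.mod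 (MG u) M)) (Nat.ble (nat_lit 36) j)) (Nat.ble (nat_lit 35) j)) (Bool.rec (motive := fun _ => Bool) (Bool.rec (motive := fun _ => Bool) (mRel MG [T_si, T_qi, T_ri] [T_p, T_si, T_ri, T_u, T_qi, T_pi, T_qi, T_r, T_q, T_u] M (Nat.sub (MG u) (Nat.mod (MG u) M)) (nat_lit 40) z1 u (Nat.mod (MG u) M)) (mRel MG [T_si, T_p] [T_qi, T_si, T_qi, T_qi, T_r] M (Nat.sub (MG u) (Nat.mod (MG u) M)) (nat_lit 40) z1 u (Nat.mod (MG u) M)) (Nat.ble (nat_lit 38) j)) (Bool.rec (motive := fun _ => Bool) (mRel MG [T_qi, T_s] [T_si, T_q, T_si, T_q] M (Nat.sub (MG u) (Nat.mod (MG u) M)) (nat_lit 40) z1 u (Nat.mod (MG u) M)) (mRel MG [T_qi, T_si] [T_si, T_p, T_ri, T_q, T_q] M (Nat.sub (MG u) (Nat.mod (MG u) M)) (nat_lit 40) z1 u (Nat.mod (MG u) M)) (Nat.ble (nat_lit 40) j)) (Nat.ble (nat_lit 39) j)) (Nat.ble (nat_lit 37) j)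
noncomputable def dM_7 (j z1 z2 u : ℕ) : Bool :=
  Bool.rec (motive := fun _ => Bool) (Bool.rec (motive := fun _ => Bool) (Bool.rec (motive := fun _ => Bool) (mRel MG [T_qi, T_ri, T_q, T_p, T_q] [T_u, T_r, T_q, T_s, T_p, T_si, T_ri, T_u] M (Nat.sub (MG u) (Nat.mod (MG u) M)) (nat_lit 40) z1 u (Nat.mod (MG u) M)) (mRel MG [T_q, T_p, T_p, T_ri, T_q] [T_r, T_pi, T_pi] M (Nat.sub (MG u) (Nat.mod (MG u) M)) (nat_lit 40) z1 u (Nat.mod (MG u) M)) (Nat.ble (nat_lit 42) j)) (Bool.rec (motive := fun _ => Bool) (mRel MG [T_qi, T_r, T_pi, T_pi] [T_pi, T_pi, T_ri, T_q] M (Nat.sub (MG u) (Nat.mod (MG u) M)) (nat_lit 40) z1 u (Nat.mod (MG u) M)) (Bool.rec (motive := fun _ => Bool) (mRel MG [T_qi, T_qi, T_p, T_ri, T_qi, T_qi, T_p] [T_r] M (Nat.sub (MG u) (Nat.mod (MG u) M)) (nat_lit 40) z1 u (Nat.mod (MG u) M)) (mRel MG [T_qi, T_qi, T_r, T_pi] [T_s,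 T_q, T_si] M (Nat.sub (MG u) (Nat.mod (MG u) M)) (nat_lit 40) z1 u (Nat.mod (MG u) M)) (Nat.ble (nat_lit 45) j)) (Nat.ble (nat_lit 44) j)) (Nat.ble (nat_lit 43) j)) (Bool.rec (motive := fun _ => Bool) (Bool.rec (motive := fun _ => Bool) (mRel MG [T_pi, T_pi, T_qi, T_r, T_p, T_p] [T_ri, T_q] M (Nat.sub (MG u) (Nat.mod (MG u) M)) (nat_lit 40) z1 u (Nat.mod (MG u) M)) (Bool.rec (motive := fun _ => Bool) (mRel MG [T_pi, T_pi, T_q, T_si, T_q, T_pi, T_pi, T_r] [] M (Nat.sub (MG u) (Nat.mod (MG u) M)) (nat_lit 40) z1 u (Nat.mod (MG u) M)) (mRel MG [T_qi, T_p, T_s, T_qi] [T_pi, T_r, T_si, T_r] M (Nat.sub (MG u) (Nat.mod (MG u) M)) (nat_lit 40) z1 u (Nat.mod (MG u) M)) (Nat.ble (nat_lit 48) j)) (Nat.ble (nat_lit 47) j)) (Bool.rec (motive := fun _ => Bool) (mRel MG [T_q, T_q, T_s] [T_r, T_pi, T_s, T_qi] M (Nat.sub (MG u) (Nat.mod (MG u) M)) (nat_lit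 40) z1 u (Nat.mod (MG u) M)) (Bool.rec (motive := fun _ => Bool) (mRel MG [T_r, T_pi, T_pi, T_q] [T_p, T_p, T_qi, T_s] M (Nat.sub (MG u) (Nat.mod (MG u) M)) (nat_lit 40) z1 u (Nat.mod (MG u) M)) (mRel MG [T_ri, T_q, T_si, T_qi, T_si] [T_pi, T_s] M (Nat.sub (MG u) (Nat.mod (MG u) M)) (nat_lit 40) z1 u (Nat.mod (MG u) M)) (Nat.ble (nat_lit 51) j)) (Nat.ble (nat_lit 50) j)) (Nat.ble (nat_lit 49) j)) (Nat.ble (nat_lit 46) j)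
noncomputable def dM_8 (j z1 z2 u : ℕ) : Bool :=
  Bool.rec (motive := fun _ => Bool) (dM_6 j z1 z2 u) (dM_7 j z1 z2 u) (Nat.ble (nat_lit 41) j)
noncomputable def dM_9 (j z1 z2 u : ℕ) : Bool :=
  Bool.rec (motive := fun _ => Bool) (dM_5 j z1 z2 u) (dM_8 j z1 z2 u) (Nat.ble (nat_lit 33) j)
noncomputable def dM_10 (j z1 z2 u : ℕ) : Bool :=
  Bool.rec (motive := fun _ => Bool) (dM_2 j z1 z2 u) (dM_9 j z1 z2 u) (Nat.ble (nat_lit 19) j)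
noncomputable def dM_11 (j z1 z2 u : ℕ) : Bool :=
  Bool.rec (motive := fun _ => Bool) (dM_1 j z1 z2 u) (dM_10 j z1 z2 u) (Nat.ble (nat_lit 8) j)
noncomputable def dM_12 (j z1 z2 u : ℕ) : Bool :=
  Bool.rec (motive := fun _ => Bool) (Bool.rec (motive := fun _ => Bool) (Bool.rec (motive := fun _ => Bool) (mRel MG [T_r, T_q, T_si, T_pi, T_q, T_pi] [T_s, T_ri] M (Nat.sub (MG u) (Nat.mod (MG u) M)) (nat_lit 40) z1 u (Nat.mod (MG u) M)) (mRel MG [T_s, T_q, T_si] [T_qi, T_qi, T_r, T_pi] M (Nat.sub (MG u) (Nat.mod (MG u) M)) (nat_lit 40) z1 u (Nat.mod (MG u) M)) (Nat.ble (nat_lit 53) j)) (Bool.rec (motive := fun _ => Bool) (mRel MG [T_p, T_p, T_qi, T_r, T_pi, T_pi] [T_ri, T_q] M (Nat.sub (MG u) (Nat.mod (MG u) M)) (nat_lit 40) z1 u (Nat.mod (MG u) M)) (Bool.rec (motive := fun _ => Bool) (mRel MG [T_pi, T_si, T_si, T_qi, T_u, T_q] [T_r, T_p,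 T_si, T_qi, T_u, T_q, T_u] M (Nat.sub (MG u) (Nat.mod (MG u) M)) (nat_lit 40) z1 u (Nat.mod (MG u) M)) (mRel MG [T_p, T_s, T_qi, T_ri, T_s] [T_q, T_pi, T_r] M (Nat.sub (MG u) (Nat.mod (MG u) M)) (nat_lit 40) z1 u (Nat.mod (MG u) M)) (Nat.ble (nat_lit 56) j)) (Nat.ble (nat_lit 55) j)) (Nat.ble (nat_lit 54) j)) (Bool.rec (motive := fun _ => Bool) (Bool.rec (motive := fun _ => Bool) (mRel MG [T_r, T_q, T_si, T_pi, T_q] [T_s, T_ri, T_p] M (Nat.sub (MG u) (Nat.mod (MG u) M)) (nat_lit 40) z1 u (Nat.mod (MG u) M)) (Bool.rec (motive := fun _ => Bool) (mRel MG [T_pi, T_pi, T_q, T_si, T_q] [T_ri, T_p, T_p] M (Nat.sub (MG u) (Nat.mod (MG u) M)) (nat_lit 40) z1 u (Nat.mod (MG u) M)) (mRel MG [T_si, T_qi, T_qi, T_r] [T_q, T_si, T_p] M (Nat.sub (MG u) (Nat.mod (MG u) M)) (nat_lit 40) z1 u (Nat.mod (MG u) M)) (Nat.ble (nat_lit 59) j)) (Nat.ble (nat_lit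 58) j)) (Bool.rec (motive := fun _ => Bool) (mRel MG [T_ri, T_p, T_qi, T_p, T_s, T_qi] [T_si, T_r] M (Nat.sub (MG u) (Nat.mod (MG u) M)) (nat_lit 40) z1 u (Nat.mod (MG u) M)) (Bool.rec (motive := fun _ => Bool) (mRel MG [T_ri, T_q, T_q, T_s, T_q] [T_pi, T_s] M (Nat.sub (MG u) (Nat.mod (MG u) M)) (nat_lit 40) z1 u (Nat.mod (MG u) M)) (mRel MG [T_qi, T_si, T_qi, T_qi] [T_si, T_p, T_ri] M (Nat.sub (MG u) (Nat.mod (MG u) M)) (nat_lit 40) z1 u (Nat.mod (MG u) M)) (Nat.ble (nat_lit 62) j)) (Nat.ble (nat_lit 61) j)) (Nat.ble (nat_lit 60) j)) (Nat.ble (nat_lit 57) j)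
noncomputable def dM_13 (j z1 z2 u : ℕ) : Bool :=
  Bool.rec (motive := fun _ => Bool) (Bool.rec (motive := fun _ => Bool) (Bool.rec (motive := fun _ => Bool) (mRel MG [T_pi, T_pi, T_r, T_pi] [T_qi, T_s, T_qi, T_p] M (Nat.sub (MG u) (Nat.mod (MG u) M)) (nat_lit 40) z1 u (Nat.mod (MG u) M)) (mRel MG [T_si, T_pi, T_u, T_p, T_s, T_u] [T_u, T_r, T_si, T_si, T_r, T_pi, T_ri] M (Nat.sub (MG u) (Nat.mod (MG u) M)) (nat_lit 40) z1 u (Nat.mod (MG u) M)) (Nat.ble (nat_lit 64) j)) (Bool.rec (motive := fun _ => Bool) (mRel MG [T_p, T_ri, T_q, T_q, T_s] [T_s, T_qi] M (Nat.sub (MG u) (Nat.mod (MG u) M)) (nat_lit 40) z1 u (Nat.mod (MG u) M)) (Bool.rec (motive := fun _ => Bool) (mRel MG [T_s, T_qi, T_r] [T_qi, T_si, T_si, T_p] M (Nat.sub (MG u) (Nat.mod (MG u) M)) (nat_lit 40) z1 u (Nat.mod (MG u) M)) (mRel MG [T_p, T_p, T_qi, T_r, T_pi, T_pi, T_qi,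 T_r] [] M (Nat.sub (MG u) (Nat.mod (MG u) M)) (nat_lit 40) z1 u (Nat.mod (MG u) M)) (Nat.ble (nat_lit 67) j)) (Nat.ble (nat_lit 66) j)) (Nat.ble (nat_lit 65) j)) (Bool.rec (motive := fun _ => Bool) (Bool.rec (motive := fun _ => Bool) (mRel MG [T_ri, T_u, T_qi, T_ri, T_q, T_p, T_q, T_u] [T_q, T_s, T_p, T_si, T_ri] M (Nat.sub (MG u) (Nat.mod (MG u) M)) (nat_lit 40) z1 u (Nat.mod (MG u) M)) (Bool.rec (motive := fun _ => Bool) (mRel MG [T_pi, T_qi, T_r, T_pi, T_pi, T_qi] [T_p, T_ri] M (Nat.sub (MG u) (Nat.mod (MG u) M)) (nat_lit 40) z1 u (Nat.mod (MG u) M)) (mRel MG [T_p, T_qi, T_r, T_pi, T_pi, T_qi, T_r] [T_pi] M (Nat.sub (MG u) (Nat.mod (MG u) M)) (nat_lit 40) z1 u (Nat.mod (MG u) M)) (Nat.ble (nat_lit 70) j)) (Nat.ble (nat_lit 69) j)) (Bool.rec (motive := fun _ => Bool) (mRel MG [T_si, T_r, T_q, T_si, T_pi] [T_ri, T_p, T_qi] M (Nat.sub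 (MG u) (Nat.mod (MG u) M)) (nat_lit 40) z1 u (Nat.mod (MG u) M)) (Bool.rec (motive := fun _ => Bool) (mRel MG [T_qi, T_s, T_qi] [T_si, T_q, T_si] M (Nat.sub (MG u) (Nat.mod (MG u) M)) (nat_lit 40) z1 u (Nat.mod (MG u) M)) (mRel MG [T_p, T_s, T_qi] [T_q, T_pi, T_r, T_si, T_r] M (Nat.sub (MG u) (Nat.mod (MG u) M)) (nat_lit 40) z1 u (Nat.mod (MG u) M)) (Nat.ble (nat_lit 73) j)) (Nat.ble (nat_lit 72) j)) (Nat.ble (nat_lit 71) j)) (Nat.ble (nat_lit 68) j)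
noncomputable def dM_14 (j z1 z2 u : ℕ) : Bool :=
  Bool.rec (motive := fun _ => Bool) (dM_12 j z1 z2 u) (dM_13 j z1 z2 u) (Nat.ble (nat_lit 63) j)
noncomputable def dM_15 (j z1 z2 u : ℕ) : Bool :=
  Bool.rec (motive := fun _ => Bool) (Bool.rec (motive := fun _ => Bool) (Bool.rec (motive := fun _ => Bool) (mRel MG [T_p, T_ri, T_q, T_pi, T_pi] [T_pi, T_qi, T_r] M (Nat.sub (MG u) (Nat.mod (MG u) M)) (nat_lit 40) z1 u (Nat.mod (MG u) M)) (mRel MG [T_si, T_qi, T_qi] [T_q, T_si, T_p, T_ri] M (Nat.sub (MG u) (Nat.mod (MG u) M)) (nat_lit 40) z1 u (Nat.mod (MG u) M)) (Nat.ble (nat_lit 75) j)) (Bool.rec (motive := fun _ => Bool) (mRel MG [T_q] [T_p, T_s, T_qi, T_ri, T_s, T_ri, T_p] M (Nat.sub (MG u) (Nat.mod (MG u) M)) (nat_lit 40) z1 u (Nat.mod (MG u) M)) (Bool.rec (motive := fun _ => Bool) (mRel MG [T_q, T_si, T_pi, T_q, T_pi, T_r, T_si, T_r]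 [] M (Nat.sub (MG u) (Nat.mod (MG u) M)) (nat_lit 40) z1 u (Nat.mod (MG u) M)) (mRel MG [T_qi, T_qi, T_r, T_pi, T_s] [T_s, T_q] M (Nat.sub (MG u) (Nat.mod (MG u) M)) (nat_lit 40) z1 u (Nat.mod (MG u) M)) (Nat.ble (nat_lit 78) j)) (Nat.ble (nat_lit 77) j)) (Nat.ble (nat_lit 76) j)) (Bool.rec (motive := fun _ => Bool) (Bool.rec (motive := fun _ => Bool) (mRel MG [T_qi, T_ri, T_u, T_qi, T_ri, T_q, T_p, T_q, T_u] [T_s, T_p, T_si, T_ri] M (Nat.sub (MG u) (Nat.mod (MG u) M)) (nat_lit 40) z1 u (Nat.mod (MG u) M)) (Bool.rec (motive := fun _ => Bool) (mRel MG [T_si, T_p, T_ri, T_q, T_si] [T_s, T_q] M (Nat.sub (MG u) (Nat.mod (MG u) M)) (nat_lit 40) z1 u (Nat.mod (MG u) M)) (mRel MG [T_ri, T_q, T_q, T_s] [T_pi, T_s, T_qi] M (Nat.sub (MG u) (Nat.mod (MG u) M)) (nat_lit 40) z1 u (Nat.mod (MG u) M)) (Nat.ble (nat_lit 81) j)) (Nat.ble (nat_lit 80)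 j)) (Bool.rec (motive := fun _ => Bool) (mRel MG [T_q, T_q, T_r] [T_p, T_ri, T_qi, T_qi, T_p] M (Nat.sub (MG u) (Nat.mod (MG u) M)) (nat_lit 40) z1 u (Nat.mod (MG u) M)) (Bool.rec (motive := fun _ => Bool) (mRel MG [T_ri, T_q, T_q, T_s, T_q, T_si] [T_pi] M (Nat.sub (MG u) (Nat.mod (MG u) M)) (nat_lit 40) z1 u (Nat.mod (MG u) M)) (mRel MG [T_r, T_pi, T_pi, T_u] [T_q, T_u, T_p, T_u, T_q, T_u, T_qi, T_u, T_pi] M (Nat.sub (MG u) (Nat.mod (MG u) M)) (nat_lit 40) z1 u (Nat.mod (MG u) M)) (Nat.ble (nat_lit 84) j)) (Nat.ble (nat_lit 83) j)) (Nat.ble (nat_lit 82) j)) (Nat.ble (nat_lit 79) j)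
noncomputable def dM_16 (j z1 z2 u : ℕ) : Bool :=
  Bool.rec (motive := fun _ => Bool) (Bool.rec (motive := fun _ => Bool) (Bool.rec (motive := fun _ => Bool) (mRel MG [T_si, T_r] [T_ri, T_p, T_qi, T_p, T_s, T_qi] M (Nat.sub (MG u) (Nat.mod (MG u) M)) (nat_lit 40) z1 u (Nat.mod (MG u) M)) (mRel MG [T_q, T_s, T_s, T_p, T_r, T_p, T_si, T_qi, T_u, T_q, T_u] [T_u, T_q] M (Nat.sub (MG u) (Nat.mod (MG u) M)) (nat_lit 40) z1 u (Nat.mod (MG u) M)) (Nat.ble (nat_lit 86) j)) (Bool.rec (motive := fun _ => Bool) (mRel MG [T_pi, T_u, T_p, T_s, T_u, T_r, T_p, T_ri, T_s, T_s, T_ri, T_u] [T_s] M (Nat.sub (MG u) (Nat.mod (MG u) M)) (nat_lit 40) z1 u (Nat.mod (MG u) M)) (Bool.rec (motive := fun _ => Bool) (mRel MG [T_p, T_ri, T_q, T_si, T_qi] [T_s, T_s] M (Nat.sub (MG u) (Nat.mod (MG u) M)) (nat_lit 40) z1 u (Nat.mod (MG u) M)) (mRel MG [T_p, T_qi] [T_pi,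 T_r, T_pi, T_pi, T_q, T_si] M (Nat.sub (MG u) (Nat.mod (MG u) M)) (nat_lit 40) z1 u (Nat.mod (MG u) M)) (Nat.ble (nat_lit 89) j)) (Nat.ble (nat_lit 88) j)) (Nat.ble (nat_lit 87) j)) (Bool.rec (motive := fun _ => Bool) (Bool.rec (motive := fun _ => Bool) (mRel MG [T_qi, T_r, T_pi, T_pi, T_qi] [T_pi, T_pi, T_ri] M (Nat.sub (MG u) (Nat.mod (MG u) M)) (nat_lit 40) z1 u (Nat.mod (MG u) M)) (Bool.rec (motive := fun _ => Bool) (mRel MG [T_q, T_q, T_s, T_q, T_si, T_p] [T_r] M (Nat.sub (MG u) (Nat.mod (MG u) M)) (nat_lit 40) z1 u (Nat.mod (MG u) M)) (mRel MG [T_pi, T_q, T_si, T_q] [T_p, T_ri, T_p, T_p] M (Nat.sub (MG u) (Nat.mod (MG u) M)) (nat_lit 40) z1 u (Nat.mod (MG u) M)) (Nat.ble (nat_lit 92) j)) (Nat.ble (nat_lit 91) j)) (Bool.rec (motive := fun _ => Bool) (mRel MG [T_p, T_p, T_ri, T_p] [T_q, T_si, T_q, T_pi] M (Nat.sub (MG u) (Nat.mod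 (MG u) M)) (nat_lit 40) z1 u (Nat.mod (MG u) M)) (Bool.rec (motive := fun _ => Bool) (mRel MG [T_pi, T_s, T_qi, T_si] [T_ri, T_q, T_q] M (Nat.sub (MG u) (Nat.mod (MG u) M)) (nat_lit 40) z1 u (Nat.mod (MG u) M)) (mRel MG [T_q, T_q, T_s, T_q, T_si, T_p, T_ri] [] M (Nat.sub (MG u) (Nat.mod (MG u) M)) (nat_lit 40) z1 u (Nat.mod (MG u) M)) (Nat.ble (nat_lit 95) j)) (Nat.ble (nat_lit 94) j)) (Nat.ble (nat_lit 93) j)) (Nat.ble (nat_lit 90) j)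
noncomputable def dM_17 (j z1 z2 u : ℕ) : Bool :=
  Bool.rec (motive := fun _ => Bool) (dM_15 j z1 z2 u) (dM_16 j z1 z2 u) (Nat.ble (nat_lit 85) j)
noncomputable def dM_18 (j z1 z2 u : ℕ) : Bool :=
  Bool.rec (motive := fun _ => Bool) (dM_14 j z1 z2 u) (dM_17 j z1 z2 u) (Nat.ble (nat_lit 74) j)
noncomputable def dM_19 (j z1 z2 u : ℕ) : Bool :=
  Bool.rec (motive := fun _ => Bool) (Bool.rec (motive := fun _ => Bool) (Bool.rec (motive := fun _ => Bool) (mRel MG [T_q, T_u] [T_ri, T_q, T_p, T_q, T_u, T_r, T_s, T_pi, T_si, T_qi, T_ri] M (Nat.sub (MG u) (Nat.mod (MG u) M)) (nat_lit 40) z1 u (Nat.mod (MG u) M)) (mRel MG [T_pi, T_q, T_pi, T_r] [T_s, T_qi, T_ri, T_s] M (Nat.sub (MG u) (Nat.mod (MG u) M)) (nat_lit 40) z1 u (Nat.mod (MG u) M)) (Nat.ble (nat_lit 97) j)) (Bool.rec (motive := fun _ => Bool) (mRel MG [T_ri, T_q, T_pi] [T_pi, T_pi, T_qi,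 T_r, T_p] M (Nat.sub (MG u) (Nat.mod (MG u) M)) (nat_lit 40) z1 u (Nat.mod (MG u) M)) (Bool.rec (motive := fun _ => Bool) (mRel MG [T_q, T_s, T_q, T_si] [T_qi, T_r, T_pi] M (Nat.sub (MG u) (Nat.mod (MG u) M)) (nat_lit 40) z1 u (Nat.mod (MG u) M)) (mRel MG [T_s, T_s] [T_p, T_ri, T_q, T_si, T_qi] M (Nat.sub (MG u) (Nat.mod (MG u) M)) (nat_lit 40) z1 u (Nat.mod (MG u) M)) (Nat.ble (nat_lit 100) j)) (Nat.ble (nat_lit 99) j)) (Nat.ble (nat_lit 98) j)) (Bool.rec (motive := fun _ => Bool) (Bool.rec (motive := fun _ => Bool) (mRel MG [T_qi, T_ri, T_s, T_ri] [T_si, T_pi, T_q, T_pi] M (Nat.sub (MG u) (Nat.mod (MG u) M)) (nat_lit 40) z1 u (Nat.mod (MG u) M)) (Bool.rec (motive := fun _ => Bool) (mRel MG [T_qi, T_si, T_si, T_p] [T_s, T_qi, T_r] M (Nat.sub (MG u) (Nat.mod (MG u) M)) (nat_lit 40) z1 u (Nat.mod (MG u) M)) (mRel MG [T_si, T_qi] [T_qi,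 T_r, T_pi, T_s, T_s] M (Nat.sub (MG u) (Nat.mod (MG u) M)) (nat_lit 40) z1 u (Nat.mod (MG u) M)) (Nat.ble (nat_lit 103) j)) (Nat.ble (nat_lit 102) j)) (Bool.rec (motive := fun _ => Bool) (mRel MG [T_q, T_s] [T_qi, T_r, T_pi, T_s, T_qi] M (Nat.sub (MG u) (Nat.mod (MG u) M)) (nat_lit 40) z1 u (Nat.mod (MG u) M)) (Bool.rec (motive := fun _ => Bool) (mRel MG [T_qi, T_p] [T_si, T_q, T_pi, T_pi, T_r, T_pi] M (Nat.sub (MG u) (Nat.mod (MG u) M)) (nat_lit 40) z1 u (Nat.mod (MG u) M)) (mRel MG [T_qi, T_ri, T_s] [T_si, T_pi, T_q, T_pi, T_r] M (Nat.sub (MG u) (Nat.mod (MG u) M)) (nat_lit 40) z1 u (Nat.mod (MG u) M)) (Nat.ble (nat_lit 106) j)) (Nat.ble (nat_lit 105) j)) (Nat.ble (nat_lit 104) j)) (Nat.ble (nat_lit 101) j)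
noncomputable def dM_20 (j z1 z2 u : ℕ) : Bool :=
  Bool.rec (motive := fun _ => Bool) (Bool.rec (motive := fun _ => Bool) (mRel MG [T_pi, T_r, T_pi, T_pi, T_q, T_si] [T_p, T_qi] M (Nat.sub (MG u) (Nat.mod (MG u) M)) (nat_lit 40) z1 u (Nat.mod (MG u) M)) (Bool.rec (motive := fun _ => Bool) (mRel MG [T_r, T_q, T_si, T_pi, T_q, T_pi, T_r] [T_s] M (Nat.sub (MG u) (Nat.mod (MG u) M)) (nat_lit 40) z1 u (Nat.mod (MG u) M)) (mRel MG [T_r, T_si, T_r] [T_p, T_qi, T_p, T_s, T_qi] M (Nat.sub (MG u) (Nat.mod (MG u) M)) (nat_lit 40) z1 u (Nat.mod (MG u) M)) (Nat.ble (nat_lit 109) j)) (Nat.ble (nat_lit 108) j)) (Bool.rec (motive := fun _ => Bool) (Bool.rec (motive := fun _ => Bool) (mRel MG [T_qi, T_p, T_ri, T_qi, T_qi, T_p, T_ri, T_qi] [] M (Nat.sub (MG u) (Nat.mod (MG u) M)) (nat_lit 40) z1 u (Nat.mod (MG u) M)) (mRel MG [T_r, T_pi, T_pi, T_qi, T_r,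 T_p, T_p, T_qi] [] M (Nat.sub (MG u) (Nat.mod (MG u) M)) (nat_lit 40) z1 u (Nat.mod (MG u) M)) (Nat.ble (nat_lit 111) j)) (Bool.rec (motive := fun _ => Bool) (mRel MG [T_ri, T_q, T_p, T_q, T_u, T_r, T_s, T_pi, T_si, T_qi, T_ri, T_u, T_qi] [] M (Nat.sub (MG u) (Nat.mod (MG u) M)) (nat_lit 40) z1 u (Nat.mod (MG u) M)) (Bool.rec (motive := fun _ => Bool) (mRel MG [T_pi, T_ri, T_u, T_si, T_pi, T_u, T_p, T_s, T_u] [T_ri, T_s, T_s, T_ri] M (Nat.sub (MG u) (Nat.mod (MG u) M)) (nat_lit 40) z1 u (Nat.mod (MG u) M)) (mRel MG [T_si, T_qi, T_si, T_si, T_p] [T_qi, T_r] M (Nat.sub (MG u) (Nat.mod (MG u) M)) (nat_lit 40) z1 u (Nat.mod (MG u) M)) (Nat.ble (nat_lit 114) j)) (Nat.ble (nat_lit 113) j)) (Nat.ble (nat_lit 112) j)) (Nat.ble (nat_lit 110) j)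
noncomputable def dM_21 (j z1 z2 u : ℕ) : Bool :=
  Bool.rec (motive := fun _ => Bool) (Bool.rec (motive := fun _ => Bool) (Bool.rec (motive := fun _ => Bool) (mRel MG [T_qi, T_ri, T_u, T_qi] [T_s, T_p, T_si, T_ri, T_u, T_qi, T_pi, T_qi, T_r] M (Nat.sub (MG u) (Nat.mod (MG u) M)) (nat_lit 40) z1 u (Nat.mod (MG u) M)) (mRel MG [T_pi, T_ri, T_pi, T_si, T_si, T_qi, T_u] [T_si, T_qi, T_u, T_q, T_u, T_qi] M (Nat.sub (MG u) (Nat.mod (MG u) M)) (nat_lit 40) z1 u (Nat.mod (MG u) M)) (Nat.ble (nat_lit 116) j)) (Bool.rec (motive := fun _ => Bool) (mRel MG [T_p, T_p, T_qi, T_s, T_qi] [T_r, T_pi, T_pi] M (Nat.sub (MG u) (Nat.mod (MG u) M)) (nat_lit 40) z1 u (Nat.mod (MG u) M)) (Bool.rec (motive := fun _ => Bool) (mRel MG [T_ri, T_s, T_s, T_ri, T_u, T_si, T_pi, T_u] [T_pi, T_ri, T_u, T_si, T_pi] M (Nat.sub (MG u) (Nat.mod (MG u) M)) (nat_lit 40) z1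 u (Nat.mod (MG u) M)) (mRel MG [T_q, T_si, T_p, T_ri] [T_si, T_qi, T_qi] M (Nat.sub (MG u) (Nat.mod (MG u) M)) (nat_lit 40) z1 u (Nat.mod (MG u) M)) (Nat.ble (nat_lit 119) j)) (Nat.ble (nat_lit 118) j)) (Nat.ble (nat_lit 117) j)) (Bool.rec (motive := fun _ => Bool) (Bool.rec (motive := fun _ => Bool) (mRel MG [T_s, T_pi, T_si, T_qi, T_ri, T_u, T_qi, T_ri, T_q, T_p, T_q, T_u] [T_ri] M (Nat.sub (MG u) (Nat.mod (MG u) M)) (nat_lit 40) z1 u (Nat.mod (MG u) M)) (Bool.rec (motive := fun _ => Bool) (mRel MG [T_q, T_u, T_r] [T_pi, T_qi, T_r, T_q, T_u, T_r, T_q, T_s, T_p, T_si] M (Nat.sub (MG u) (Nat.mod (MG u) M)) (nat_lit 40) z1 u (Nat.mod (MG u) M)) (mRel MG [T_q, T_q, T_q, T_q] [T_qi] M (Nat.sub (MG u) (Nat.mod (MG u) M)) (nat_lit 40) z1 u (Nat.mod (MG u) M)) (Nat.ble (nat_lit 122) j)) (Nat.ble (nat_lit 121) j)) (Bool.rec (motive := fun _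 => Bool) (mRel MG [T_qi, T_ri, T_q, T_p, T_q, T_u, T_r] [T_u, T_r, T_q, T_s, T_p, T_si] M (Nat.sub (MG u) (Nat.mod (MG u) M)) (nat_lit 40) z1 u (Nat.mod (MG u) M)) (Bool.rec (motive := fun _ => Bool) (mRel MG [T_qi, T_p, T_p, T_ri, T_p, T_p] [T_si, T_q] M (Nat.sub (MG u) (Nat.mod (MG u) M)) (nat_lit 40) z1 u (Nat.mod (MG u) M)) (mRel MG [T_ri, T_q, T_p, T_p, T_ri, T_q, T_pi] [T_p] M (Nat.sub (MG u) (Nat.mod (MG u) M)) (nat_lit 40) z1 u (Nat.mod (MG u) M)) (Nat.ble (nat_lit 125) j)) (Nat.ble (nat_lit 124) j)) (Nat.ble (nat_lit 123) j)) (Nat.ble (nat_lit 120) j)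
noncomputable def dM_22 (j z1 z2 u : ℕ) : Bool :=
  Bool.rec (motive := fun _ => Bool) (dM_20 j z1 z2 u) (dM_21 j z1 z2 u) (Nat.ble (nat_lit 115) j)
noncomputable def dM_23 (j z1 z2 u : ℕ) : Bool :=
  Bool.rec (motive := fun _ => Bool) (dM_19 j z1 z2 u) (dM_22 j z1 z2 u) (Nat.ble (nat_lit 107) j)
noncomputable def dM_24 (j z1 z2 u : ℕ) : Bool :=
  Bool.rec (motive := fun _ => Bool) (Bool.rec (motive := fun _ => Bool) (Bool.rec (motive := fun _ => Bool) (mRel MG [T_qi, T_r, T_q] [T_p, T_q, T_u, T_r, T_s, T_pi, T_si, T_qi, T_ri, T_u] M (Nat.sub (MG u) (Nat.mod (MG u) M)) (nat_lit 40) z1 u (Nat.mod (MG u) M)) (mRel MG [T_q, T_u, T_p, T_u, T_q, T_u, T_qi, T_u] [T_r, T_pi, T_pi, T_u, T_p] M (Nat.sub (MG u) (Nat.mod (MG u) M)) (nat_lit 40) z1 u (Nat.mod (MG u) M)) (Nat.ble (nat_lit 127) j)) (Bool.rec (motive := fun _ => Bool) (mRel MG [T_p,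 T_r, T_p, T_si, T_qi, T_u, T_q, T_u, T_qi, T_u] [T_si, T_si, T_qi] M (Nat.sub (MG u) (Nat.mod (MG u) M)) (nat_lit 40) z1 u (Nat.mod (MG u) M)) (Bool.rec (motive := fun _ => Bool) (mRel MG [T_ri, T_pi, T_si, T_si, T_qi, T_u, T_q, T_u] [T_p, T_si, T_qi, T_u, T_q] M (Nat.sub (MG u) (Nat.mod (MG u) M)) (nat_lit 40) z1 u (Nat.mod (MG u) M)) (mRel MG [T_pi, T_s, T_qi, T_si, T_qi, T_qi] [T_ri] M (Nat.sub (MG u) (Nat.mod (MG u) M)) (nat_lit 40) z1 u (Nat.mod (MG u) M)) (Nat.ble (nat_lit 130) j)) (Nat.ble (nat_lit 129) j)) (Nat.ble (nat_lit 128) j)) (Bool.rec (motive := fun _ => Bool) (Bool.rec (motive := fun _ => Bool) (mRel MG [T_s, T_s, T_p, T_r, T_p, T_si, T_qi] [T_qi, T_u, T_q, T_u, T_qi, T_u] M (Nat.sub (MG u) (Nat.mod (MG u) M)) (nat_lit 40) z1 u (Nat.mod (MG u) M)) (Bool.rec (motive := fun _ => Bool) (mRel MG [T_qi] [T_u, T_qi, T_u, T_q,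 T_s, T_pi, T_ri, T_pi, T_si, T_si, T_qi, T_u] M (Nat.sub (MG u) (Nat.mod (MG u) M)) (nat_lit 40) z1 u (Nat.mod (MG u) M)) (mRel MG [T_q, T_si, T_q, T_si] [T_s, T_qi] M (Nat.sub (MG u) (Nat.mod (MG u) M)) (nat_lit 40) z1 u (Nat.mod (MG u) M)) (Nat.ble (nat_lit 133) j)) (Nat.ble (nat_lit 132) j)) (Bool.rec (motive := fun _ => Bool) (mRel MG [T_q] [T_s, T_qi, T_p, T_p, T_ri, T_p, T_p] M (Nat.sub (MG u) (Nat.mod (MG u) M)) (nat_lit 40) z1 u (Nat.mod (MG u) M)) (Bool.rec (motive := fun _ => Bool) (mRel MG [T_pi, T_si, T_si, T_qi, T_u, T_q, T_u, T_qi, T_u, T_q] [T_r, T_p, T_si] M (Nat.sub (MG u) (Nat.mod (MG u) M)) (nat_lit 40) z1 u (Nat.mod (MG u) M)) (mRel MG [T_r, T_pi, T_pi, T_qi, T_r, T_p] [T_q, T_pi] M (Nat.sub (MG u) (Nat.mod (MG u) M)) (nat_lit 40) z1 u (Nat.mod (MG u) M)) (Nat.ble (nat_lit 136) j)) (Nat.ble (nat_lit 135) j)) (Nat.ble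 (nat_lit 134) j)) (Nat.ble (nat_lit 131) j)
noncomputable def dM_25 (j z1 z2 u : ℕ) : Bool :=
  Bool.rec (motive := fun _ => Bool) (Bool.rec (motive := fun _ => Bool) (Bool.rec (motive := fun _ => Bool) (mRel MG [T_q, T_si, T_qi, T_si, T_si] [T_r, T_pi] M (Nat.sub (MG u) (Nat.mod (MG u) M)) (nat_lit 40) z1 u (Nat.mod (MG u) M)) (mRel MG [T_qi, T_u] [T_s, T_pi, T_ri, T_pi, T_si, T_si, T_qi, T_u, T_q, T_u, T_qi] M (Nat.sub (MG u) (Nat.mod (MG u) M)) (nat_lit 40) z1 u (Nat.mod (MG u) M)) (Nat.ble (nat_lit 138) j)) (Bool.rec (motive := fun _ => Bool) (mRel MG [T_ri, T_q, T_q] [T_pi, T_s, T_qi, T_si] M (Nat.sub (MG u) (Nat.mod (MG u) M)) (nat_lit 40) z1 u (Nat.mod (MG u) M)) (Bool.rec (motive := fun _ => Bool) (mRel MG [T_q, T_u, T_r, T_q, T_s, T_p, T_si, T_ri] [T_ri, T_q, T_p, T_q, T_u] M (Nat.sub (MG u) (Nat.mod (MG u) M)) (nat_lit 40) z1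 u (Nat.mod (MG u) M)) (mRel MG [T_qi, T_r, T_p, T_p, T_qi] [T_p, T_p, T_ri] M (Nat.sub (MG u) (Nat.mod (MG u) M)) (nat_lit 40) z1 u (Nat.mod (MG u) M)) (Nat.ble (nat_lit 141) j)) (Nat.ble (nat_lit 140) j)) (Nat.ble (nat_lit 139) j)) (Bool.rec (motive := fun _ => Bool) (Bool.rec (motive := fun _ => Bool) (mRel MG [T_r, T_pi, T_s, T_qi, T_si] [T_q, T_q] M (Nat.sub (MG u) (Nat.mod (MG u) M)) (nat_lit 40) z1 u (Nat.mod (MG u) M)) (Bool.rec (motive := fun _ => Bool) (mRel MG [T_q, T_si] [T_r, T_pi, T_s, T_s, T_q] M (Nat.sub (MG u) (Nat.mod (MG u) M)) (nat_lit 40) z1 u (Nat.mod (MG u) M)) (mRel MG [T_ri, T_q] [T_pi, T_pi, T_qi, T_r, T_p, T_p] M (Nat.sub (MG u) (Nat.mod (MG u) M)) (nat_lit 40) z1 u (Nat.mod (MG u) M)) (Nat.ble (nat_lit 144) j)) (Nat.ble (nat_lit 143) j)) (Bool.rec (motive := fun _ => Bool) (mRel MG [T_q, T_si, T_q] [T_s, T_qi,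 T_s] M (Nat.sub (MG u) (Nat.mod (MG u) M)) (nat_lit 40) z1 u (Nat.mod (MG u) M)) (Bool.rec (motive := fun _ => Bool) (mRel MG [T_si, T_pi, T_q, T_pi] [T_qi, T_ri, T_s, T_ri] M (Nat.sub (MG u) (Nat.mod (MG u) M)) (nat_lit 40) z1 u (Nat.mod (MG u) M)) (mRel MG [T_pi, T_q, T_pi, T_r, T_si, T_r, T_q, T_si] [] M (Nat.sub (MG u) (Nat.mod (MG u) M)) (nat_lit 40) z1 u (Nat.mod (MG u) M)) (Nat.ble (nat_lit 147) j)) (Nat.ble (nat_lit 146) j)) (Nat.ble (nat_lit 145) j)) (Nat.ble (nat_lit 142) j)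
noncomputable def dM_26 (j z1 z2 u : ℕ) : Bool :=
  Bool.rec (motive := fun _ => Bool) (dM_24 j z1 z2 u) (dM_25 j z1 z2 u) (Nat.ble (nat_lit 137) j)
noncomputable def dM_27 (j z1 z2 u : ℕ) : Bool :=
  Bool.rec (motive := fun _ => Bool) (Bool.rec (motive := fun _ => Bool) (Bool.rec (motive := fun _ => Bool) (mRel MG [T_p, T_p, T_qi, T_r] [T_ri, T_q, T_p, T_p] M (Nat.sub (MG u) (Nat.mod (MG u) M)) (nat_lit 40) z1 u (Nat.mod (MG u) M)) (mRel MG [T_p, T_ri, T_p, T_p, T_qi] [T_pi, T_q, T_si] M (Nat.sub (MG u) (Nat.mod (MG u) M)) (nat_lit 40) z1 u (Nat.mod (MG u) M)) (Nat.ble (nat_lit 149) j)) (Bool.rec (motive := fun _ => Bool) (mRel MG [T_p, T_qi, T_p, T_s, T_qi, T_ri, T_s, T_ri] [] M (Nat.sub (MG u) (Nat.mod (MG u) M)) (nat_lit 40) z1 u (Nat.mod (MG u) M)) (Bool.rec (motive := fun _ => Bool) (mRel MG [T_p, T_ri, T_q, T_u, T_p, T_u, T_q,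 T_u, T_qi] [T_pi, T_u, T_p, T_u] M (Nat.sub (MG u) (Nat.mod (MG u) M)) (nat_lit 40) z1 u (Nat.mod (MG u) M)) (mRel MG [T_si, T_pi, T_q, T_pi, T_r, T_si] [T_qi, T_ri] M (Nat.sub (MG u) (Nat.mod (MG u) M)) (nat_lit 40) z1 u (Nat.mod (MG u) M)) (Nat.ble (nat_lit 152) j)) (Nat.ble (nat_lit 151) j)) (Nat.ble (nat_lit 150) j)) (Bool.rec (motive := fun _ => Bool) (Bool.rec (motive := fun _ => Bool) (mRel MG [T_pi, T_pi, T_r, T_pi, T_pi, T_q] [T_qi, T_s] M (Nat.sub (MG u) (Nat.mod (MG u) M)) (nat_lit 40) z1 u (Nat.mod (MG u) M)) (Bool.rec (motive := fun _ => Bool) (mRel MG [T_pi, T_qi, T_r, T_q] [T_q, T_u, T_r, T_s, T_pi, T_si, T_qi, T_ri, T_u] M (Nat.sub (MG u) (Nat.mod (MG u) M)) (nat_lit 40) z1 u (Nat.mod (MG u) M)) (mRel MG [T_q, T_s, T_q, T_si, T_p, T_ri, T_q] [] M (Nat.sub (MG u) (Nat.mod (MG u) M)) (nat_lit 40) z1 u (Nat.mod (MG u) M))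 (Nat.ble (nat_lit 155) j)) (Nat.ble (nat_lit 154) j)) (Bool.rec (motive := fun _ => Bool) (mRel MG [T_p, T_ri, T_q, T_u, T_p, T_u, T_q] [T_pi, T_u, T_p, T_u, T_q, T_u] M (Nat.sub (MG u) (Nat.mod (MG u) M)) (nat_lit 40) z1 u (Nat.mod (MG u) M)) (Bool.rec (motive := fun _ => Bool) (mRel MG [T_qi] [T_s, T_qi, T_r, T_pi, T_s, T_s] M (Nat.sub (MG u) (Nat.mod (MG u) M)) (nat_lit 40) z1 u (Nat.mod (MG u) M)) (mRel MG [T_pi, T_q, T_si, T_q, T_pi, T_pi, T_r, T_pi] [] M (Nat.sub (MG u) (Nat.mod (MG u) M)) (nat_lit 40) z1 u (Nat.mod (MG u) M)) (Nat.ble (nat_lit 158) j)) (Nat.ble (nat_lit 157) j)) (Nat.ble (nat_lit 156) j)) (Nat.ble (nat_lit 153) j)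
noncomputable def dM_28 (j z1 z2 u : ℕ) : Bool :=
  Bool.rec (motive := fun _ => Bool) (Bool.rec (motive := fun _ => Bool) (Bool.rec (motive := fun _ => Bool) (mRel MG [T_pi, T_pi, T_q, T_si] [T_ri, T_p, T_p, T_qi] M (Nat.sub (MG u) (Nat.mod (MG u) M)) (nat_lit 40) z1 u (Nat.mod (MG u) M)) (mRel MG [T_p, T_qi, T_p, T_s, T_qi] [T_r, T_si, T_r] M (Nat.sub (MG u) (Nat.mod (MG u) M)) (nat_lit 40) z1 u (Nat.mod (MG u) M)) (Nat.ble (nat_lit 160) j)) (Bool.rec (motive := fun _ => Bool) (mRel MG [T_r, T_pi, T_ri, T_u, T_si, T_pi, T_u, T_p, T_s, T_u, T_r] [T_s, T_s] M (Nat.sub (MG u) (Nat.mod (MG u) M)) (nat_lit 40) z1 u (Nat.mod (MG u) M)) (Bool.rec (motive := fun _ => Bool) (mRel MG [T_s, T_qi, T_s, T_qi] [T_q, T_si] M (Nat.sub (MG u) (Nat.mod (MG u) M)) (nat_lit 40) z1 u (Nat.mod (MG u) M)) (mRel MG [T_qi, T_ri, T_q, T_p, T_q, T_u] [T_u, T_r,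 T_q, T_s, T_p, T_si, T_ri] M (Nat.sub (MG u) (Nat.mod (MG u) M)) (nat_lit 40) z1 u (Nat.mod (MG u) M)) (Nat.ble (nat_lit 163) j)) (Nat.ble (nat_lit 162) j)) (Nat.ble (nat_lit 161) j)) (Bool.rec (motive := fun _ => Bool) (Bool.rec (motive := fun _ => Bool) (mRel MG [T_r, T_p] [T_q, T_p, T_p, T_ri, T_q, T_pi] M (Nat.sub (MG u) (Nat.mod (MG u) M)) (nat_lit 40) z1 u (Nat.mod (MG u) M)) (Bool.rec (motive := fun _ => Bool) (mRel MG [T_pi] [T_p, T_qi, T_s, T_qi, T_p, T_p, T_ri] M (Nat.sub (MG u) (Nat.mod (MG u) M)) (nat_lit 40) z1 u (Nat.mod (MG u) M)) (mRel MG [T_q, T_u] [T_r, T_pi, T_pi, T_u, T_p, T_u, T_q, T_u, T_qi, T_u, T_pi] M (Nat.sub (MG u) (Nat.mod (MG u) M)) (nat_lit 40) z1 u (Nat.mod (MG u) M)) (Nat.ble (nat_lit 166) j)) (Nat.ble (nat_lit 165) j)) (Bool.rec (motive := fun _ => Bool) (mRel MG [T_p, T_ri, T_p, T_p, T_qi, T_s, T_qi,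 T_p] [] M (Nat.sub (MG u) (Nat.mod (MG u) M)) (nat_lit 40) z1 u (Nat.mod (MG u) M)) (Bool.rec (motive := fun _ => Bool) (mRel MG [T_s, T_qi, T_si, T_qi] [T_p, T_ri, T_q] M (Nat.sub (MG u) (Nat.mod (MG u) M)) (nat_lit 40) z1 u (Nat.mod (MG u) M)) (mRel MG [T_s, T_pi, T_si, T_qi, T_ri, T_u, T_qi, T_ri, T_q, T_p, T_q] [T_ri, T_u] M (Nat.sub (MG u) (Nat.mod (MG u) M)) (nat_lit 40) z1 u (Nat.mod (MG u) M)) (Nat.ble (nat_lit 169) j)) (Nat.ble (nat_lit 168) j)) (Nat.ble (nat_lit 167) j)) (Nat.ble (nat_lit 164) j)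
noncomputable def dM_29 (j z1 z2 u : ℕ) : Bool :=
  Bool.rec (motive := fun _ => Bool) (dM_27 j z1 z2 u) (dM_28 j z1 z2 u) (Nat.ble (nat_lit 159) j)
noncomputable def dM_30 (j z1 z2 u : ℕ) : Bool :=
  Bool.rec (motive := fun _ => Bool) (dM_26 j z1 z2 u) (dM_29 j z1 z2 u) (Nat.ble (nat_lit 148) j)
noncomputable def dM_31 (j z1 z2 u : ℕ) : Bool :=
  Bool.rec (motive := fun _ => Bool) (dM_23 j z1 z2 u) (dM_30 j z1 z2 u) (Nat.ble (nat_lit 126) j)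
noncomputable def dM_32 (j z1 z2 u : ℕ) : Bool :=
  Bool.rec (motive := fun _ => Bool) (dM_18 j z1 z2 u) (dM_31 j z1 z2 u) (Nat.ble (nat_lit 96) j)
noncomputable def dM_33 (j z1 z2 u : ℕ) : Bool :=
  Bool.rec (motive := fun _ => Bool) (Bool.rec (motive := fun _ => Bool) (Bool.rec (motive := fun _ => Bool) (mRel MG [T_p, T_ri, T_qi, T_qi, T_p] [T_q, T_q, T_r] M (Nat.sub (MG u) (Nat.mod (MG u) M)) (nat_lit 40) z1 u (Nat.mod (MG u) M)) (mRel MG [T_ri, T_p, T_p] [T_pi, T_pi, T_q, T_si, T_q] M (Nat.sub (MG u) (Nat.mod (MG u) M)) (nat_lit 40) z1 u (Nat.mod (MG u) M)) (Nat.ble (nat_lit 171) j)) (Bool.rec (motive := fun _ => Bool) (mRel MG [T_s, T_qi, T_si] [T_p, T_ri, T_q, T_q] M (Nat.sub (MG u) (Nat.mod (MG u) M)) (nat_lit 40) z1 u (Nat.mod (MG u) M)) (Bool.rec (motive := fun _ => Bool) (mRel MG [T_q, T_p, T_q, T_u, T_r, T_s, T_pi, T_si, T_qi,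 T_ri, T_u] [T_r, T_q] M (Nat.sub (MG u) (Nat.mod (MG u) M)) (nat_lit 40) z1 u (Nat.mod (MG u) M)) (mRel MG [T_si, T_q] [T_qi, T_s, T_qi, T_s] M (Nat.sub (MG u) (Nat.mod (MG u) M)) (nat_lit 40) z1 u (Nat.mod (MG u) M)) (Nat.ble (nat_lit 174) j)) (Nat.ble (nat_lit 173) j)) (Nat.ble (nat_lit 172) j)) (Bool.rec (motive := fun _ => Bool) (Bool.rec (motive := fun _ => Bool) (mRel MG [T_q, T_p, T_p, T_ri, T_q, T_p, T_p] [T_r] M (Nat.sub (MG u) (Nat.mod (MG u) M)) (nat_lit 40) z1 u (Nat.mod (MG u) M)) (Bool.rec (motive := fun _ => Bool) (mRel MG [T_p, T_p, T_qi, T_s, T_qi, T_p, T_p, T_ri] [] M (Nat.sub (MG u) (Nat.mod (MG u) M)) (nat_lit 40) z1 u (Nat.mod (MG u) M)) (mRel MG [T_p, T_ri, T_q, T_p] [T_pi, T_qi, T_r, T_pi] M (Nat.sub (MG u) (Nat.mod (MG u) M)) (nat_lit 40) z1 u (Nat.mod (MG u) M)) (Nat.ble (nat_lit 177) j)) (Nat.ble (nat_lit 176)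 j)) (Bool.rec (motive := fun _ => Bool) (mRel MG [T_qi, T_r, T_pi, T_s] [T_si, T_qi, T_si] M (Nat.sub (MG u) (Nat.mod (MG u) M)) (nat_lit 40) z1 u (Nat.mod (MG u) M)) (Bool.rec (motive := fun _ => Bool) (mRel MG [T_qi, T_r, T_p, T_p] [T_p, T_p, T_ri, T_q] M (Nat.sub (MG u) (Nat.mod (MG u) M)) (nat_lit 40) z1 u (Nat.mod (MG u) M)) (mRel MG [T_p, T_ri, T_qi, T_qi, T_p, T_ri] [T_q, T_q] M (Nat.sub (MG u) (Nat.mod (MG u) M)) (nat_lit 40) z1 u (Nat.mod (MG u) M)) (Nat.ble (nat_lit 180) j)) (Nat.ble (nat_lit 179) j)) (Nat.ble (nat_lit 178) j)) (Nat.ble (nat_lit 175) j)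
noncomputable def dM_34 (j z1 z2 u : ℕ) : Bool :=
  Bool.rec (motive := fun _ => Bool) (Bool.rec (motive := fun _ => Bool) (Bool.rec (motive := fun _ => Bool) (mRel MG [T_p, T_ri] [T_s, T_s, T_q, T_s, T_qi] M (Nat.sub (MG u) (Nat.mod (MG u) M)) (nat_lit 40) z1 u (Nat.mod (MG u) M)) (mRel MG [T_ri, T_q, T_p, T_q] [T_q, T_u, T_r, T_q, T_s, T_p, T_si, T_ri, T_u] M (Nat.sub (MG u) (Nat.mod (MG u) M)) (nat_lit 40) z1 u (Nat.mod (MG u) M)) (Nat.ble (nat_lit 182) j)) (Bool.rec (motive := fun _ => Bool) (mRel MG [T_pi, T_qi, T_r, T_p] [T_p, T_ri, T_q, T_pi] M (Nat.sub (MG u) (Nat.mod (MG u) M)) (nat_lit 40) z1 u (Nat.mod (MG u) M)) (Bool.rec (motive := fun _ => Bool) (mRel MG [T_pi, T_qi, T_r, T_q, T_u] [T_q, T_u, T_r, T_s, T_pi, T_si, T_qi, T_ri] M (Nat.sub (MG u) (Nat.mod (MG u) M)) (nat_lit 40) z1 u (Nat.mod (MG u) M)) (mRel MG [T_pi, T_pi,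 T_qi, T_r, T_pi, T_pi] [T_ri, T_q] M (Nat.sub (MG u) (Nat.mod (MG u) M)) (nat_lit 40) z1 u (Nat.mod (MG u) M)) (Nat.ble (nat_lit 185) j)) (Nat.ble (nat_lit 184) j)) (Nat.ble (nat_lit 183) j)) (Bool.rec (motive := fun _ => Bool) (Bool.rec (motive := fun _ => Bool) (mRel MG [T_p, T_qi, T_s, T_qi, T_p, T_p, T_ri, T_p] [] M (Nat.sub (MG u) (Nat.mod (MG u) M)) (nat_lit 40) z1 u (Nat.mod (MG u) M)) (Bool.rec (motive := fun _ => Bool) (mRel MG [T_p, T_r, T_p, T_si, T_qi, T_u, T_q, T_u] [T_si, T_si, T_qi, T_u, T_q] M (Nat.sub (MG u) (Nat.mod (MG u) M)) (nat_lit 40) z1 u (Nat.mod (MG u) M)) (mRel MG [T_pi, T_ri, T_u, T_si] [T_ri, T_s, T_s, T_ri, T_u, T_si, T_pi, T_u, T_p] M (Nat.sub (MG u) (Nat.mod (MG u) M)) (nat_lit 40) z1 u (Nat.mod (MG u) M)) (Nat.ble (nat_lit 188) j)) (Nat.ble (nat_lit 187) j)) (Bool.rec (motive := fun _ => Bool) (mRel MG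 [T_p, T_ri, T_q, T_pi, T_pi, T_ri] [T_pi, T_qi] M (Nat.sub (MG u) (Nat.mod (MG u) M)) (nat_lit 40) z1 u (Nat.mod (MG u) M)) (Bool.rec (motive := fun _ => Bool) (mRel MG [T_si, T_r, T_q] [T_ri, T_p, T_qi, T_p, T_s] M (Nat.sub (MG u) (Nat.mod (MG u) M)) (nat_lit 40) z1 u (Nat.mod (MG u) M)) (mRel MG [T_q] [T_r, T_pi, T_pi, T_qi, T_r, T_pi, T_pi] M (Nat.sub (MG u) (Nat.mod (MG u) M)) (nat_lit 40) z1 u (Nat.mod (MG u) M)) (Nat.ble (nat_lit 191) j)) (Nat.ble (nat_lit 190) j)) (Nat.ble (nat_lit 189) j)) (Nat.ble (nat_lit 186) j)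
noncomputable def dM_35 (j z1 z2 u : ℕ) : Bool :=
  Bool.rec (motive := fun _ => Bool) (dM_33 j z1 z2 u) (dM_34 j z1 z2 u) (Nat.ble (nat_lit 181) j)
noncomputable def dM_36 (j z1 z2 u : ℕ) : Bool :=
  Bool.rec (motive := fun _ => Bool) (Bool.rec (motive := fun _ => Bool) (Bool.rec (motive := fun _ => Bool) (mRel MG [T_p, T_ri, T_q, T_u, T_p, T_u, T_q, T_u, T_qi, T_u, T_pi, T_u] [T_pi] M (Nat.sub (MG u) (Nat.mod (MG u) M)) (nat_lit 40) z1 u (Nat.mod (MG u) M)) (mRel MG [T_q, T_pi, T_pi, T_ri, T_q] [T_r, T_pi, T_pi] M (Nat.sub (MG u) (Nat.mod (MG u) M)) (nat_lit 40) z1 u (Nat.mod (MG u) M)) (Nat.ble (nat_lit 193) j)) (Bool.rec (motive := fun _ => Bool) (mRel MG [T_ri, T_p, T_qi, T_p, T_s, T_qi, T_ri] [T_si] M (Nat.sub (MG u) (Nat.mod (MG u) M)) (nat_lit 40) z1 u (Nat.mod (MG u) M)) (Bool.rec (motive := fun _ => Bool) (mRel MG [T_q, T_s,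 T_p, T_si, T_ri, T_u, T_qi, T_pi, T_qi, T_r, T_q] [T_ri, T_u] M (Nat.sub (MG u) (Nat.mod (MG u) M)) (nat_lit 40) z1 u (Nat.mod (MG u) M)) (mRel MG [T_q, T_u] [T_u, T_q, T_s, T_pi, T_ri, T_pi, T_si, T_si, T_qi, T_u, T_q] M (Nat.sub (MG u) (Nat.mod (MG u) M)) (nat_lit 40) z1 u (Nat.mod (MG u) M)) (Nat.ble (nat_lit 196) j)) (Nat.ble (nat_lit 195) j)) (Nat.ble (nat_lit 194) j)) (Bool.rec (motive := fun _ => Bool) (Bool.rec (motive := fun _ => Bool) (mRel MG [T_qi, T_r, T_pi, T_pi, T_qi, T_r, T_p, T_p] [] M (Nat.sub (MG u) (Nat.mod (MG u) M)) (nat_lit 40) z1 u (Nat.mod (MG u) M)) (Bool.rec (motive := fun _ => Bool) (mRel MG [T_pi, T_pi, T_qi] [T_ri, T_q, T_pi, T_pi, T_ri] M (Nat.sub (MG u) (Nat.mod (MG u) M)) (nat_lit 40) z1 u (Nat.mod (MG u) M)) (mRel MG [T_q, T_si, T_pi, T_q, T_pi, T_r, T_si] [T_ri] M (Nat.sub (MG u) (Nat.mod (MG u) M))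 (nat_lit 40) z1 u (Nat.mod (MG u) M)) (Nat.ble (nat_lit 199) j)) (Nat.ble (nat_lit 198) j)) (Bool.rec (motive := fun _ => Bool) (mRel MG [T_p, T_p, T_ri, T_q, T_p] [T_qi, T_r, T_pi] M (Nat.sub (MG u) (Nat.mod (MG u) M)) (nat_lit 40) z1 u (Nat.mod (MG u) M)) (Bool.rec (motive := fun _ => Bool) (mRel MG [T_si, T_si, T_qi] [T_p, T_r, T_p, T_si, T_qi, T_u, T_q, T_u, T_qi, T_u] M (Nat.sub (MG u) (Nat.mod (MG u) M)) (nat_lit 40) z1 u (Nat.mod (MG u) M)) (mRel MG [T_p, T_ri, T_q, T_si] [T_s, T_s, T_q] M (Nat.sub (MG u) (Nat.mod (MG u) M)) (nat_lit 40) z1 u (Nat.mod (MG u) M)) (Nat.ble (nat_lit 202) j)) (Nat.ble (nat_lit 201) j)) (Nat.ble (nat_lit 200) j)) (Nat.ble (nat_lit 197) j)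
noncomputable def dM_37 (j z1 z2 u : ℕ) : Bool :=
  Bool.rec (motive := fun _ => Bool) (Bool.rec (motive := fun _ => Bool) (Bool.rec (motive := fun _ => Bool) (mRel MG [T_r, T_s, T_pi, T_si, T_qi, T_ri, T_u] [T_u, T_qi, T_pi, T_qi, T_r, T_q] M (Nat.sub (MG u) (Nat.mod (MG u) M)) (nat_lit 40) z1 u (Nat.mod (MG u) M)) (mRel MG [T_pi, T_q, T_si, T_q, T_pi] [T_p, T_ri, T_p] M (Nat.sub (MG u) (Nat.mod (MG u) M)) (nat_lit 40) z1 u (Nat.mod (MG u) M)) (Nat.ble (nat_lit 204) j)) (Bool.rec (motive := fun _ => Bool) (mRel MG [T_si, T_p, T_ri, T_q] [T_qi, T_si, T_qi] M (Nat.sub (MG u) (Nat.mod (MG u) M)) (nat_lit 40) z1 u (Nat.mod (MG u) M)) (Bool.rec (motive := fun _ => Bool) (mRel MG [T_q, T_pi, T_pi, T_r, T_pi, T_pi, T_q] [T_s] M (Nat.sub (MG u) (Nat.mod (MG u) M)) (nat_lit 40) z1 u (Nat.mod (MG u) M)) (mRel MG [T_s, T_s, T_q] [T_p, T_ri, T_q,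 T_si] M (Nat.sub (MG u) (Nat.mod (MG u) M)) (nat_lit 40) z1 u (Nat.mod (MG u) M)) (Nat.ble (nat_lit 207) j)) (Nat.ble (nat_lit 206) j)) (Nat.ble (nat_lit 205) j)) (Bool.rec (motive := fun _ => Bool) (Bool.rec (motive := fun _ => Bool) (mRel MG [T_pi, T_ri, T_q, T_p] [T_p, T_qi, T_r, T_pi] M (Nat.sub (MG u) (Nat.mod (MG u) M)) (nat_lit 40) z1 u (Nat.mod (MG u) M)) (Bool.rec (motive := fun _ => Bool) (mRel MG [T_s, T_s, T_q, T_s, T_qi] [T_p, T_ri] M (Nat.sub (MG u) (Nat.mod (MG u) M)) (nat_lit 40) z1 u (Nat.mod (MG u) M)) (mRel MG [T_s, T_qi, T_s] [T_q, T_si, T_q] M (Nat.sub (MG u) (Nat.mod (MG u) M)) (nat_lit 40) z1 u (Nat.mod (MG u) M)) (Nat.ble (nat_lit 210) j)) (Nat.ble (nat_lit 209) j)) (Bool.rec (motive := fun _ => Bool) (mRel MG [T_qi, T_r, T_pi, T_s, T_qi, T_si] [T_q] M (Nat.sub (MG u) (Nat.mod (MG u) M)) (nat_lit 40) z1 u (Nat.mod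 (MG u) M)) (Bool.rec (motive := fun _ => Bool) (mRel MG [T_q, T_u, T_r, T_q, T_s, T_p, T_si, T_ri, T_u] [T_ri, T_q, T_p, T_q] M (Nat.sub (MG u) (Nat.mod (MG u) M)) (nat_lit 40) z1 u (Nat.mod (MG u) M)) (mRel MG [T_pi] [T_p, T_ri, T_p, T_p, T_qi, T_s, T_qi] M (Nat.sub (MG u) (Nat.mod (MG u) M)) (nat_lit 40) z1 u (Nat.mod (MG u) M)) (Nat.ble (nat_lit 213) j)) (Nat.ble (nat_lit 212) j)) (Nat.ble (nat_lit 211) j)) (Nat.ble (nat_lit 208) j)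
noncomputable def dM_38 (j z1 z2 u : ℕ) : Bool :=
  Bool.rec (motive := fun _ => Bool) (dM_36 j z1 z2 u) (dM_37 j z1 z2 u) (Nat.ble (nat_lit 203) j)
noncomputable def dM_39 (j z1 z2 u : ℕ) : Bool :=
  Bool.rec (motive := fun _ => Bool) (dM_35 j z1 z2 u) (dM_38 j z1 z2 u) (Nat.ble (nat_lit 192) j)
noncomputable def dM_40 (j z1 z2 u : ℕ) : Bool :=
  Bool.rec (motive := fun _ => Bool) (Bool.rec (motive := fun _ => Bool) (Bool.rec (motive := fun _ => Bool) (mRel MG [T_s, T_q, T_s, T_qi, T_r, T_pi] [T_si] M (Nat.sub (MG u) (Nat.mod (MG u) M)) (nat_lit 40) z1 u (Nat.mod (MG u) M)) (mRel MG [T_qi, T_u, T_pi] [T_u, T_qi, T_u, T_pi, T_u, T_qi, T_r, T_pi, T_pi, T_u] M (Nat.sub (MG u) (Nat.mod (MG u) M)) (nat_lit 40) z1 u (Nat.mod (MG u) M)) (Nat.ble (nat_lit 215) j)) (Bool.rec (motive := fun _ => Bool) (mRel MG [T_qi, T_r, T_pi, T_pi, T_qi, T_r,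 T_p] [T_pi] M (Nat.sub (MG u) (Nat.mod (MG u) M)) (nat_lit 40) z1 u (Nat.mod (MG u) M)) (Bool.rec (motive := fun _ => Bool) (mRel MG [T_s, T_qi, T_p, T_p, T_ri, T_p, T_p] [T_q] M (Nat.sub (MG u) (Nat.mod (MG u) M)) (nat_lit 40) z1 u (Nat.mod (MG u) M)) (mRel MG [T_qi, T_pi, T_qi, T_r, T_q, T_u, T_r] [T_u, T_r, T_s, T_pi, T_si, T_qi] M (Nat.sub (MG u) (Nat.mod (MG u) M)) (nat_lit 40) z1 u (Nat.mod (MG u) M)) (Nat.ble (nat_lit 218) j)) (Nat.ble (nat_lit 217) j)) (Nat.ble (nat_lit 216) j)) (Bool.rec (motive := fun _ => Bool) (Bool.rec (motive := fun _ => Bool) (mRel MG [T_s, T_qi, T_r, T_pi, T_s, T_s] [T_qi] M (Nat.sub (MG u) (Nat.mod (MG u) M)) (nat_lit 40) z1 u (Nat.mod (MG u) M)) (Bool.rec (motive := fun _ => Bool) (mRel MG [T_p, T_p, T_ri, T_q, T_pi] [T_qi, T_r, T_p] M (Nat.sub (MG u) (Nat.mod (MG u) M)) (nat_lit 40) z1 u (Nat.mod (MG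 u) M)) (mRel MG [T_s, T_q, T_s] [T_si, T_p, T_ri, T_q] M (Nat.sub (MG u) (Nat.mod (MG u) M)) (nat_lit 40) z1 u (Nat.mod (MG u) M)) (Nat.ble (nat_lit 221) j)) (Nat.ble (nat_lit 220) j)) (Bool.rec (motive := fun _ => Bool) (mRel MG [T_pi, T_pi, T_qi, T_r, T_pi, T_pi, T_qi] [T_ri] M (Nat.sub (MG u) (Nat.mod (MG u) M)) (nat_lit 40) z1 u (Nat.mod (MG u) M)) (Bool.rec (motive := fun _ => Bool) (mRel MG [T_q, T_u, T_qi, T_u] [T_u, T_q, T_s, T_s, T_p, T_r, T_p, T_si, T_qi] M (Nat.sub (MG u) (Nat.mod (MG u) M)) (nat_lit 40) z1 u (Nat.mod (MG u) M)) (mRel MG [T_q, T_q, T_r, T_pi] [T_p, T_ri, T_qi, T_qi] M (Nat.sub (MG u) (Nat.mod (MG u) M)) (nat_lit 40) z1 u (Nat.mod (MG u) M)) (Nat.ble (nat_lit 224) j)) (Nat.ble (nat_lit 223) j)) (Nat.ble (nat_lit 222) j)) (Nat.ble (nat_lit 219) j)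
noncomputable def dM_41 (j z1 z2 u : ℕ) : Bool :=
  Bool.rec (motive := fun _ => Bool) (Bool.rec (motive := fun _ => Bool) (Bool.rec (motive := fun _ => Bool) (mRel MG [T_ri, T_p, T_p, T_qi] [T_pi, T_pi, T_q, T_si] M (Nat.sub (MG u) (Nat.mod (MG u) M)) (nat_lit 40) z1 u (Nat.mod (MG u) M)) (mRel MG [T_p, T_p, T_ri, T_q, T_pi, T_pi] [T_qi, T_r] M (Nat.sub (MG u) (Nat.mod (MG u) M)) (nat_lit 40) z1 u (Nat.mod (MG u) M)) (Nat.ble (nat_lit 226) j)) (Bool.rec (motive := fun _ => Bool) (mRel MG [T_si, T_q, T_pi] [T_qi, T_p, T_p, T_ri, T_p] M (Nat.sub (MG u) (Nat.mod (MG u) M)) (nat_lit 40) z1 u (Nat.mod (MG u) M)) (Bool.rec (motive := fun _ => Bool) (mRel MG [T_si, T_ri, T_u] [T_pi, T_si, T_qi, T_ri, T_u, T_qi, T_ri, T_q, T_p, T_q] M (Nat.sub (MG u) (Nat.mod (MG u) M)) (nat_lit 40) z1 u (Nat.mod (MG u) M)) (mRel MG [T_ri, T_q, T_pi, T_pi] [T_pi,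 T_pi, T_qi, T_r] M (Nat.sub (MG u) (Nat.mod (MG u) M)) (nat_lit 40) z1 u (Nat.mod (MG u) M)) (Nat.ble (nat_lit 229) j)) (Nat.ble (nat_lit 228) j)) (Nat.ble (nat_lit 227) j)) (Bool.rec (motive := fun _ => Bool) (Bool.rec (motive := fun _ => Bool) (mRel MG [T_qi, T_s, T_qi, T_p] [T_pi, T_pi, T_r, T_pi] M (Nat.sub (MG u) (Nat.mod (MG u) M)) (nat_lit 40) z1 u (Nat.mod (MG u) M)) (Bool.rec (motive := fun _ => Bool) (mRel MG [T_qi, T_s, T_qi, T_p, T_p, T_ri] [T_pi, T_pi] M (Nat.sub (MG u) (Nat.mod (MG u) M)) (nat_lit 40) z1 u (Nat.mod (MG u) M)) (mRel MG [T_qi, T_p] [T_pi, T_r, T_si, T_r, T_q, T_si] M (Nat.sub (MG u) (Nat.mod (MG u) M)) (nat_lit 40) z1 u (Nat.mod (MG u) M)) (Nat.ble (nat_lit 232) j)) (Nat.ble (nat_lit 231) j)) (Bool.rec (motive := fun _ => Bool) (mRel MG [T_ri, T_p, T_qi] [T_si, T_r, T_q, T_si, T_pi] M (Nat.sub (MG u) (Nat.mod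 (MG u) M)) (nat_lit 40) z1 u (Nat.mod (MG u) M)) (Bool.rec (motive := fun _ => Bool) (mRel MG [T_s, T_q, T_si, T_p] [T_qi, T_qi, T_r] M (Nat.sub (MG u) (Nat.mod (MG u) M)) (nat_lit 40) z1 u (Nat.mod (MG u) M)) (mRel MG [T_ri, T_q, T_si, T_qi] [T_pi, T_s, T_s] M (Nat.sub (MG u) (Nat.mod (MG u) M)) (nat_lit 40) z1 u (Nat.mod (MG u) M)) (Nat.ble (nat_lit 235) j)) (Nat.ble (nat_lit 234) j)) (Nat.ble (nat_lit 233) j)) (Nat.ble (nat_lit 230) j)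
noncomputable def dM_42 (j z1 z2 u : ℕ) : Bool :=
  Bool.rec (motive := fun _ => Bool) (dM_40 j z1 z2 u) (dM_41 j z1 z2 u) (Nat.ble (nat_lit 225) j)
noncomputable def dM_43 (j z1 z2 u : ℕ) : Bool :=
  Bool.rec (motive := fun _ => Bool) (Bool.rec (motive := fun _ => Bool) (Bool.rec (motive := fun _ => Bool) (mRel MG [T_si, T_pi, T_q] [T_qi, T_ri, T_s, T_ri, T_p] M (Nat.sub (MG u) (Nat.mod (MG u) M)) (nat_lit 40) z1 u (Nat.mod (MG u) M)) (mRel MG [T_q, T_si, T_qi] [T_r, T_pi, T_s, T_s] M (Nat.sub (MG u) (Nat.mod (MG u) M)) (nat_lit 40) z1 u (Nat.mod (MG u) M)) (Nat.ble (nat_lit 237) j)) (Bool.rec (motive := fun _ => Bool) (mRel MG [T_si, T_si, T_qi, T_u, T_q, T_u] [T_p, T_r, T_p, T_si, T_qi, T_u, T_q] M (Nat.sub (MG u) (Nat.mod (MG u) M)) (nat_lit 40) z1 u (Nat.mod (MG u) M)) (Bool.rec (motive := fun _ => Bool) (mRel MG [T_si, T_si, T_r,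 T_pi, T_ri, T_u, T_si, T_pi, T_u] [T_ri, T_u, T_si, T_pi] M (Nat.sub (MG u) (Nat.mod (MG u) M)) (nat_lit 40) z1 u (Nat.mod (MG u) M)) (mRel MG [T_si, T_qi, T_si, T_si, T_p, T_ri] [T_qi] M (Nat.sub (MG u) (Nat.mod (MG u) M)) (nat_lit 40) z1 u (Nat.mod (MG u) M)) (Nat.ble (nat_lit 240) j)) (Nat.ble (nat_lit 239) j)) (Nat.ble (nat_lit 238) j)) (Bool.rec (motive := fun _ => Bool) (Bool.rec (motive := fun _ => Bool) (mRel MG [T_si, T_r, T_q, T_si] [T_ri, T_p, T_qi, T_p] M (Nat.sub (MG u) (Nat.mod (MG u) M)) (nat_lit 40) z1 u (Nat.mod (MG u) M)) (Bool.rec (motive := fun _ => Bool) (mRel MG [T_pi, T_s, T_s] [T_ri, T_q, T_si, T_qi] M (Nat.sub (MG u) (Nat.mod (MG u) M)) (nat_lit 40) z1 u (Nat.mod (MG u) M)) (mRel MG [T_s, T_ri, T_u] [T_si, T_r, T_pi, T_ri, T_u, T_si, T_pi, T_u, T_p, T_s] M (Nat.sub (MG u) (Nat.mod (MG u) M)) (nat_lit 40) z1 u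 (Nat.mod (MG u) M)) (Nat.ble (nat_lit 243) j)) (Nat.ble (nat_lit 242) j)) (Bool.rec (motive := fun _ => Bool) (mRel MG [T_ri, T_q, T_p, T_q, T_u] [T_q, T_u, T_r, T_q, T_s, T_p, T_si, T_ri] M (Nat.sub (MG u) (Nat.mod (MG u) M)) (nat_lit 40) z1 u (Nat.mod (MG u) M)) (Bool.rec (motive := fun _ => Bool) (mRel MG [T_q, T_u, T_r] [T_ri, T_q, T_p, T_q, T_u, T_r, T_s, T_pi, T_si, T_qi] M (Nat.sub (MG u) (Nat.mod (MG u) M)) (nat_lit 40) z1 u (Nat.mod (MG u) M)) (mRel MG [T_p, T_ri, T_p, T_p] [T_pi, T_q, T_si, T_q] M (Nat.sub (MG u) (Nat.mod (MG u) M)) (nat_lit 40) z1 u (Nat.mod (MG u) M)) (Nat.ble (nat_lit 246) j)) (Nat.ble (nat_lit 245) j)) (Nat.ble (nat_lit 244) j)) (Nat.ble (nat_lit 241) j)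
noncomputable def dM_44 (j z1 z2 u : ℕ) : Bool :=
  Bool.rec (motive := fun _ => Bool) (Bool.rec (motive := fun _ => Bool) (Bool.rec (motive := fun _ => Bool) (mRel MG [T_p, T_qi, T_r, T_pi, T_pi, T_qi] [T_pi, T_ri] M (Nat.sub (MG u) (Nat.mod (MG u) M)) (nat_lit 40) z1 u (Nat.mod (MG u) M)) (mRel MG [T_q, T_s, T_qi, T_r] [T_si, T_si, T_p] M (Nat.sub (MG u) (Nat.mod (MG u) M)) (nat_lit 40) z1 u (Nat.mod (MG u) M)) (Nat.ble (nat_lit 248) j)) (Bool.rec (motive := fun _ => Bool) (mRel MG [T_p, T_p] [T_qi, T_r, T_p, T_p, T_qi, T_r] M (Nat.sub (MG u) (Nat.mod (MG u) M)) (nat_lit 40) z1 u (Nat.mod (MG u) M)) (Bool.rec (motive := fun _ => Bool) (mRel MG [T_ri, T_q] [T_p, T_p, T_qi, T_r, T_pi, T_pi] M (Nat.sub (MG u) (Nat.mod (MG u) M)) (nat_lit 40) z1 u (Nat.mod (MG u) M)) (mRel MG [T_pi, T_u] [T_s, T_u, T_r, T_si, T_si, T_r, T_pi, T_ri, T_u,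 T_si, T_pi] M (Nat.sub (MG u) (Nat.mod (MG u) M)) (nat_lit 40) z1 u (Nat.mod (MG u) M)) (Nat.ble (nat_lit 251) j)) (Nat.ble (nat_lit 250) j)) (Nat.ble (nat_lit 249) j)) (Bool.rec (motive := fun _ => Bool) (Bool.rec (motive := fun _ => Bool) (mRel MG [T_si, T_pi, T_q, T_pi, T_r] [T_qi, T_ri, T_s] M (Nat.sub (MG u) (Nat.mod (MG u) M)) (nat_lit 40) z1 u (Nat.mod (MG u) M)) (Bool.rec (motive := fun _ => Bool) (mRel MG [T_pi, T_s] [T_ri, T_q, T_si, T_qi, T_si] M (Nat.sub (MG u) (Nat.mod (MG u) M)) (nat_lit 40) z1 u (Nat.mod (MG u) M)) (mRel MG [T_p, T_u, T_q, T_u, T_qi, T_u, T_pi, T_u, T_p, T_p, T_ri, T_q, T_u] [] M (Nat.sub (MG u) (Nat.mod (MG u) M)) (nat_lit 40) z1 u (Nat.mod (MG u) M)) (Nat.ble (nat_lit 254) j)) (Nat.ble (nat_lit 253) j)) (Bool.rec (motive := fun _ => Bool) (mRel MG [T_si, T_si, T_qi, T_u, T_q, T_u, T_qi] [T_p, T_r, T_p,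 T_si, T_qi, T_u] M (Nat.sub (MG u) (Nat.mod (MG u) M)) (nat_lit 40) z1 u (Nat.mod (MG u) M)) (Bool.rec (motive := fun _ => Bool) (mRel MG [T_qi, T_qi] [T_q, T_q, T_q] M (Nat.sub (MG u) (Nat.mod (MG u) M)) (nat_lit 40) z1 u (Nat.mod (MG u) M)) (mRel MG [T_pi, T_q, T_si] [T_p, T_ri, T_p, T_p, T_qi] M (Nat.sub (MG u) (Nat.mod (MG u) M)) (nat_lit 40) z1 u (Nat.mod (MG u) M)) (Nat.ble (nat_lit 257) j)) (Nat.ble (nat_lit 256) j)) (Nat.ble (nat_lit 255) j)) (Nat.ble (nat_lit 252) j)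
noncomputable def dM_45 (j z1 z2 u : ℕ) : Bool :=
  Bool.rec (motive := fun _ => Bool) (dM_43 j z1 z2 u) (dM_44 j z1 z2 u) (Nat.ble (nat_lit 247) j)
noncomputable def dM_46 (j z1 z2 u : ℕ) : Bool :=
  Bool.rec (motive := fun _ => Bool) (dM_42 j z1 z2 u) (dM_45 j z1 z2 u) (Nat.ble (nat_lit 236) j)
noncomputable def dM_47 (j z1 z2 u : ℕ) : Bool :=
  Bool.rec (motive := fun _ => Bool) (dM_39 j z1 z2 u) (dM_46 j z1 z2 u) (Nat.ble (nat_lit 214) j)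
noncomputable def dM_48 (j z1 z2 u : ℕ) : Bool :=
  Bool.rec (motive := fun _ => Bool) (Bool.rec (motive := fun _ => Bool) (Bool.rec (motive := fun _ => Bool) (mRel MG [T_q, T_r, T_pi, T_q, T_q] [T_qi, T_p, T_ri] M (Nat.sub (MG u) (Nat.mod (MG u) M)) (nat_lit 40) z1 u (Nat.mod (MG u) M)) (mRel MG [T_s, T_q, T_s, T_qi, T_r] [T_si, T_p] M (Nat.sub (MG u) (Nat.mod (MG u) M)) (nat_lit 40) z1 u (Nat.mod (MG u) M)) (Nat.ble (nat_lit 259) j)) (Bool.rec (motive := fun _ => Bool) (mRel MG [T_si, T_qi, T_u, T_q, T_u] [T_pi, T_ri, T_pi, T_si, T_si, T_qi, T_u, T_q] M (Nat.sub (MG u) (Nat.mod (MG u) M)) (nat_lit 40) z1 u (Nat.mod (MG u) M)) (Bool.rec (motive := fun _ => Bool) (mRel MG [T_qi, T_si, T_qi, T_qi, T_r, T_pi] [T_si] M (Nat.sub (MG u) (Nat.mod (MG u) M)) (nat_lit 40) z1 u (Nat.mod (MG u) M)) (mRel MG [T_pi, T_ri, T_pi, T_si, T_si, T_qi,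 T_u, T_q, T_u, T_qi] [T_si, T_qi, T_u] M (Nat.sub (MG u) (Nat.mod (MG u) M)) (nat_lit 40) z1 u (Nat.mod (MG u) M)) (Nat.ble (nat_lit 262) j)) (Nat.ble (nat_lit 261) j)) (Nat.ble (nat_lit 260) j)) (Bool.rec (motive := fun _ => Bool) (Bool.rec (motive := fun _ => Bool) (mRel MG [T_pi, T_u, T_p, T_p, T_ri, T_q] [T_u, T_q, T_u, T_qi, T_u, T_pi, T_u] M (Nat.sub (MG u) (Nat.mod (MG u) M)) (nat_lit 40) z1 u (Nat.mod (MG u) M)) (Bool.rec (motive := fun _ => Bool) (mRel MG [T_q, T_si, T_pi, T_q, T_pi] [T_ri, T_s, T_ri] M (Nat.sub (MG u) (Nat.mod (MG u) M)) (nat_lit 40) z1 u (Nat.mod (MG u) M)) (mRel MG [T_qi, T_si, T_qi, T_qi, T_r] [T_si, T_p] M (Nat.sub (MG u) (Nat.mod (MG u) M)) (nat_lit 40) z1 u (Nat.mod (MG u) M)) (Nat.ble (nat_lit 265) j)) (Nat.ble (nat_lit 264) j)) (Bool.rec (motive := fun _ => Bool) (mRel MG [T_ri, T_q, T_p, T_q, T_u, T_r,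 T_s, T_pi, T_si, T_qi, T_ri, T_u] [T_q] M (Nat.sub (MG u) (Nat.mod (MG u) M)) (nat_lit 40) z1 u (Nat.mod (MG u) M)) (Bool.rec (motive := fun _ => Bool) (mRel MG [T_qi, T_r, T_pi, T_pi, T_u, T_p, T_u, T_q, T_u, T_qi, T_u, T_pi] [T_u] M (Nat.sub (MG u) (Nat.mod (MG u) M)) (nat_lit 40) z1 u (Nat.mod (MG u) M)) (mRel MG [T_s, T_q, T_s, T_qi] [T_si, T_p, T_ri] M (Nat.sub (MG u) (Nat.mod (MG u) M)) (nat_lit 40) z1 u (Nat.mod (MG u) M)) (Nat.ble (nat_lit 268) j)) (Nat.ble (nat_lit 267) j)) (Nat.ble (nat_lit 266) j)) (Nat.ble (nat_lit 263) j)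
noncomputable def dM_49 (j z1 z2 u : ℕ) : Bool :=
  Bool.rec (motive := fun _ => Bool) (Bool.rec (motive := fun _ => Bool) (Bool.rec (motive := fun _ => Bool) (mRel MG [T_qi, T_r, T_p] [T_p, T_p, T_ri, T_q, T_pi] M (Nat.sub (MG u) (Nat.mod (MG u) M)) (nat_lit 40) z1 u (Nat.mod (MG u) M)) (mRel MG [T_q, T_pi, T_r, T_si, T_r] [T_p, T_s, T_qi] M (Nat.sub (MG u) (Nat.mod (MG u) M)) (nat_lit 40) z1 u (Nat.mod (MG u) M)) (Nat.ble (nat_lit 270) j)) (Bool.rec (motive := fun _ => Bool) (mRel MG [T_qi, T_ri, T_u] [T_s, T_p, T_si, T_ri, T_u, T_qi, T_pi, T_qi, T_r, T_q] M (Nat.sub (MG u) (Nat.mod (MG u) M)) (nat_lit 40) z1 u (Nat.mod (MG u) M)) (Bool.rec (motive := fun _ => Bool) (mRel MG [T_q, T_si, T_q, T_si, T_q] [T_s] M (Nat.sub (MG u) (Nat.mod (MG u) M)) (nat_lit 40) z1 u (Nat.mod (MG u) M)) (mRel MG [T_p, T_ri, T_s, T_s, T_ri] [T_ri, T_u, T_si,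 T_pi, T_u, T_p, T_s, T_u] M (Nat.sub (MG u) (Nat.mod (MG u) M)) (nat_lit 40) z1 u (Nat.mod (MG u) M)) (Nat.ble (nat_lit 273) j)) (Nat.ble (nat_lit 272) j)) (Nat.ble (nat_lit 271) j)) (Bool.rec (motive := fun _ => Bool) (Bool.rec (motive := fun _ => Bool) (mRel MG [T_pi, T_u, T_p, T_p, T_ri, T_q, T_u, T_p, T_u, T_q, T_u, T_qi, T_u] [] M (Nat.sub (MG u) (Nat.mod (MG u) M)) (nat_lit 40) z1 u (Nat.mod (MG u) M)) (Bool.rec (motive := fun _ => Bool) (mRel MG [T_si, T_r, T_pi, T_ri, T_u, T_si, T_pi, T_u] [T_s, T_ri, T_u, T_si, T_pi] M (Nat.sub (MG u) (Nat.mod (MG u) M)) (nat_lit 40) z1 u (Nat.mod (MG u) M)) (mRel MG [T_q, T_q, T_s, T_q] [T_r, T_pi, T_s] M (Nat.sub (MG u) (Nat.mod (MG u) M)) (nat_lit 40) z1 u (Nat.mod (MG u) M)) (Nat.ble (nat_lit 276) j)) (Nat.ble (nat_lit 275) j)) (Bool.rec (motive := fun _ => Bool) (mRel MG [T_p, T_qi, T_p]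 [T_r, T_si, T_r, T_q, T_si] M (Nat.sub (MG u) (Nat.mod (MG u) M)) (nat_lit 40) z1 u (Nat.mod (MG u) M)) (Bool.rec (motive := fun _ => Bool) (mRel MG [T_r, T_pi, T_pi, T_qi, T_r, T_p, T_p] [T_q] M (Nat.sub (MG u) (Nat.mod (MG u) M)) (nat_lit 40) z1 u (Nat.mod (MG u) M)) (mRel MG [T_p, T_qi, T_p, T_s, T_qi, T_ri] [T_r, T_si] M (Nat.sub (MG u) (Nat.mod (MG u) M)) (nat_lit 40) z1 u (Nat.mod (MG u) M)) (Nat.ble (nat_lit 279) j)) (Nat.ble (nat_lit 278) j)) (Nat.ble (nat_lit 277) j)) (Nat.ble (nat_lit 274) j)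
noncomputable def dM_50 (j z1 z2 u : ℕ) : Bool :=
  Bool.rec (motive := fun _ => Bool) (dM_48 j z1 z2 u) (dM_49 j z1 z2 u) (Nat.ble (nat_lit 269) j)
noncomputable def dM_51 (j z1 z2 u : ℕ) : Bool :=
  Bool.rec (motive := fun _ => Bool) (Bool.rec (motive := fun _ => Bool) (Bool.rec (motive := fun _ => Bool) (mRel MG [T_r, T_si, T_r, T_q, T_si] [T_p, T_qi, T_p] M (Nat.sub (MG u) (Nat.mod (MG u) M)) (nat_lit 40) z1 u (Nat.mod (MG u) M)) (mRel MG [T_p, T_p, T_qi, T_r, T_pi, T_pi, T_qi] [T_ri] M (Nat.sub (MG u) (Nat.mod (MG u) M)) (nat_lit 40) z1 u (Nat.mod (MG u) M)) (Nat.ble (nat_lit 281) j)) (Bool.rec (motive := fun _ => Bool) (mRel MG [T_pi, T_si, T_si, T_qi, T_u] [T_r, T_p, T_si, T_qi, T_u, T_q, T_u, T_qi] M (Nat.sub (MG u) (Nat.mod (MG u) M)) (nat_lit 40) z1 u (Nat.mod (MG u) M)) (Bool.rec (motive := fun _ => Bool) (mRel MG [T_q, T_pi]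 [T_p, T_s, T_qi, T_ri, T_s, T_ri] M (Nat.sub (MG u) (Nat.mod (MG u) M)) (nat_lit 40) z1 u (Nat.mod (MG u) M)) (mRel MG [T_si, T_qi] [T_q, T_si, T_p, T_ri, T_q] M (Nat.sub (MG u) (Nat.mod (MG u) M)) (nat_lit 40) z1 u (Nat.mod (MG u) M)) (Nat.ble (nat_lit 284) j)) (Nat.ble (nat_lit 283) j)) (Nat.ble (nat_lit 282) j)) (Bool.rec (motive := fun _ => Bool) (Bool.rec (motive := fun _ => Bool) (mRel MG [T_qi] [T_si, T_q, T_si, T_q, T_si] M (Nat.sub (MG u) (Nat.mod (MG u) M)) (nat_lit 40) z1 u (Nat.mod (MG u) M)) (Bool.rec (motive := fun _ => Bool) (mRel MG [T_q, T_s, T_s, T_p, T_r, T_p, T_si, T_qi, T_u, T_q, T_u, T_qi, T_u] [] M (Nat.sub (MG u) (Nat.mod (MG u) M)) (nat_lit 40) z1 u (Nat.mod (MG u) M)) (mRel MG [T_ri, T_u, T_si, T_pi, T_u, T_p] [T_si, T_si, T_r, T_pi, T_ri, T_u, T_si] M (Nat.sub (MG u) (Nat.mod (MG u) M)) (nat_lit 40) z1 u (Nat.mod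 (MG u) M)) (Nat.ble (nat_lit 287) j)) (Nat.ble (nat_lit 286) j)) (Bool.rec (motive := fun _ => Bool) (mRel MG [T_p, T_si, T_qi, T_u, T_q, T_u] [T_ri, T_pi, T_si, T_si, T_qi, T_u, T_q] M (Nat.sub (MG u) (Nat.mod (MG u) M)) (nat_lit 40) z1 u (Nat.mod (MG u) M)) (Bool.rec (motive := fun _ => Bool) (mRel MG [T_q, T_s, T_s, T_p, T_r, T_p, T_si, T_qi, T_u, T_q, T_u, T_qi] [T_u] M (Nat.sub (MG u) (Nat.mod (MG u) M)) (nat_lit 40) z1 u (Nat.mod (MG u) M)) (mRel MG [T_qi, T_s, T_qi, T_p, T_p, T_ri, T_p, T_p] [] M (Nat.sub (MG u) (Nat.mod (MG u) M)) (nat_lit 40) z1 u (Nat.mod (MG u) M)) (Nat.ble (nat_lit 290) j)) (Nat.ble (nat_lit 289) j)) (Nat.ble (nat_lit 288) j)) (Nat.ble (nat_lit 285) j)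
noncomputable def dM_52 (j z1 z2 u : ℕ) : Bool :=
  Bool.rec (motive := fun _ => Bool) (Bool.rec (motive := fun _ => Bool) (Bool.rec (motive := fun _ => Bool) (mRel MG [T_pi, T_ri, T_u] [T_ri, T_s, T_s, T_ri, T_u, T_si, T_pi, T_u, T_p, T_s] M (Nat.sub (MG u) (Nat.mod (MG u) M)) (nat_lit 40) z1 u (Nat.mod (MG u) M)) (mRel MG [T_r, T_p, T_ri, T_s, T_s, T_ri, T_u] [T_u, T_si, T_pi, T_u, T_p, T_s] M (Nat.sub (MG u) (Nat.mod (MG u) M)) (nat_lit 40) z1 u (Nat.mod (MG u) M)) (Nat.ble (nat_lit 292) j)) (Bool.rec (motive := fun _ => Bool) (mRel MG [T_pi, T_r, T_pi, T_pi] [T_p, T_qi, T_s, T_qi] M (Nat.sub (MG u) (Nat.mod (MG u) M)) (nat_lit 40) z1 u (Nat.mod (MG u) M)) (Bool.rec (motive := fun _ => Bool) (mRel MG [T_si, T_p] [T_s, T_q, T_s, T_qi, T_r] M (Nat.sub (MG u) (Nat.mod (MG u) M)) (nat_lit 40) z1 u (Nat.mod (MG u) M)) (mRel MG [T_q, T_s]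 [T_si, T_si, T_p, T_ri, T_q] M (Nat.sub (MG u) (Nat.mod (MG u) M)) (nat_lit 40) z1 u (Nat.mod (MG u) M)) (Nat.ble (nat_lit 295) j)) (Nat.ble (nat_lit 294) j)) (Nat.ble (nat_lit 293) j)) (Bool.rec (motive := fun _ => Bool) (Bool.rec (motive := fun _ => Bool) (mRel MG [T_s, T_qi] [T_qi, T_si, T_si, T_p, T_ri] M (Nat.sub (MG u) (Nat.mod (MG u) M)) (nat_lit 40) z1 u (Nat.mod (MG u) M)) (Bool.rec (motive := fun _ => Bool) (mRel MG [T_ri, T_s, T_ri, T_p, T_qi] [T_q, T_si, T_pi] M (Nat.sub (MG u) (Nat.mod (MG u) M)) (nat_lit 40) z1 u (Nat.mod (MG u) M)) (mRel MG [T_pi, T_r] [T_p, T_qi, T_s, T_qi, T_p, T_p] M (Nat.sub (MG u) (Nat.mod (MG u) M)) (nat_lit 40) z1 u (Nat.mod (MG u) M)) (Nat.ble (nat_lit 298) j)) (Nat.ble (nat_lit 297) j)) (Bool.rec (motive := fun _ => Bool) (mRel MG [T_pi, T_pi, T_ri, T_q] [T_qi, T_r, T_pi, T_pi] M (Nat.sub (MG u)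 (Nat.mod (MG u) M)) (nat_lit 40) z1 u (Nat.mod (MG u) M)) (Bool.rec (motive := fun _ => Bool) (mRel MG [T_s, T_qi, T_ri, T_s, T_ri, T_p] [T_pi, T_q] M (Nat.sub (MG u) (Nat.mod (MG u) M)) (nat_lit 40) z1 u (Nat.mod (MG u) M)) (mRel MG [T_qi, T_u] [T_u, T_qi, T_u, T_q, T_s, T_pi, T_ri, T_pi, T_si, T_si, T_qi] M (Nat.sub (MG u) (Nat.mod (MG u) M)) (nat_lit 40) z1 u (Nat.mod (MG u) M)) (Nat.ble (nat_lit 301) j)) (Nat.ble (nat_lit 300) j)) (Nat.ble (nat_lit 299) j)) (Nat.ble (nat_lit 296) j)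
noncomputable def dM_53 (j z1 z2 u : ℕ) : Bool :=
  Bool.rec (motive := fun _ => Bool) (dM_51 j z1 z2 u) (dM_52 j z1 z2 u) (Nat.ble (nat_lit 291) j)
noncomputable def dM_54 (j z1 z2 u : ℕ) : Bool :=
  Bool.rec (motive := fun _ => Bool) (dM_50 j z1 z2 u) (dM_53 j z1 z2 u) (Nat.ble (nat_lit 280) j)
noncomputable def dM_55 (j z1 z2 u : ℕ) : Bool :=
  Bool.rec (motive := fun _ => Bool) (Bool.rec (motive := fun _ => Bool) (Bool.rec (motive := fun _ => Bool) (mRel MG [T_ri, T_q, T_p, T_p, T_ri, T_q, T_pi, T_pi] [] M (Nat.sub (MG u) (Nat.mod (MG u) M)) (nat_lit 40) z1 u (Nat.mod (MG u) M)) (mRel MG [T_q, T_p, T_p, T_ri, T_q, T_pi, T_pi] [T_r] M (Nat.sub (MG u) (Nat.mod (MG u) M)) (nat_lit 40) z1 u (Nat.mod (MG u) M)) (Nat.ble (nat_lit 303) j)) (Bool.rec (motive := fun _ => Bool) (mRel MG [T_p, T_qi, T_s, T_qi] [T_pi, T_r, T_pi, T_pi] M (Nat.sub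 (MG u) (Nat.mod (MG u) M)) (nat_lit 40) z1 u (Nat.mod (MG u) M)) (Bool.rec (motive := fun _ => Bool) (mRel MG [T_s, T_qi, T_p, T_p] [T_q, T_pi, T_pi, T_r] M (Nat.sub (MG u) (Nat.mod (MG u) M)) (nat_lit 40) z1 u (Nat.mod (MG u) M)) (mRel MG [T_p, T_p] [T_q, T_si, T_q, T_pi, T_pi, T_r] M (Nat.sub (MG u) (Nat.mod (MG u) M)) (nat_lit 40) z1 u (Nat.mod (MG u) M)) (Nat.ble (nat_lit 306) j)) (Nat.ble (nat_lit 305) j)) (Nat.ble (nat_lit 304) j)) (Bool.rec (motive := fun _ => Bool) (Bool.rec (motive := fun _ => Bool) (mRel MG [T_q, T_si, T_p, T_ri, T_q, T_q] [T_si] M (Nat.sub (MG u) (Nat.mod (MG u) M)) (nat_lit 40) z1 u (Nat.mod (MG u) M)) (Bool.rec (motive := fun _ => Bool) (mRel MG [T_q, T_si, T_q, T_pi, T_pi] [T_p, T_p, T_ri] M (Nat.sub (MG u) (Nat.mod (MG u) M)) (nat_lit 40) z1 u (Nat.mod (MG u) M)) (mRel MG [T_qi, T_ri, T_s, T_ri, T_p, T_qi]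 [T_si, T_pi] M (Nat.sub (MG u) (Nat.mod (MG u) M)) (nat_lit 40) z1 u (Nat.mod (MG u) M)) (Nat.ble (nat_lit 309) j)) (Nat.ble (nat_lit 308) j)) (Bool.rec (motive := fun _ => Bool) (mRel MG [T_p, T_si, T_ri, T_u, T_qi, T_pi, T_qi, T_r, T_q] [T_si, T_qi, T_ri, T_u] M (Nat.sub (MG u) (Nat.mod (MG u) M)) (nat_lit 40) z1 u (Nat.mod (MG u) M)) (Bool.rec (motive := fun _ => Bool) (mRel MG [T_q, T_p, T_p, T_ri, T_q, T_pi] [T_r, T_p] M (Nat.sub (MG u) (Nat.mod (MG u) M)) (nat_lit 40) z1 u (Nat.mod (MG u) M)) (mRel MG [T_p, T_p, T_ri, T_p, T_p, T_qi] [T_q, T_si] M (Nat.sub (MG u) (Nat.mod (MG u) M)) (nat_lit 40) z1 u (Nat.mod (MG u) M)) (Nat.ble (nat_lit 312) j)) (Nat.ble (nat_lit 311) j)) (Nat.ble (nat_lit 310) j)) (Nat.ble (nat_lit 307) j)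
noncomputable def dM_56 (j z1 z2 u : ℕ) : Bool :=
  Bool.rec (motive := fun _ => Bool) (Bool.rec (motive := fun _ => Bool) (Bool.rec (motive := fun _ => Bool) (mRel MG [T_si, T_p, T_ri] [T_s, T_q, T_s, T_qi] M (Nat.sub (MG u) (Nat.mod (MG u) M)) (nat_lit 40) z1 u (Nat.mod (MG u) M)) (mRel MG [T_p, T_ri] [T_pi, T_qi, T_r, T_pi, T_pi, T_qi] M (Nat.sub (MG u) (Nat.mod (MG u) M)) (nat_lit 40) z1 u (Nat.mod (MG u) M)) (Nat.ble (nat_lit 314) j)) (Bool.rec (motive := fun _ => Bool) (mRel MG [T_pi, T_pi, T_q, T_si, T_q, T_pi] [T_ri, T_p] M (Nat.sub (MG u) (Nat.mod (MG u) M)) (nat_lit 40) z1 u (Nat.mod (MG u) M)) (Bool.rec (motive := fun _ => Bool) (mRel MG [T_q, T_q] [T_r, T_pi, T_s, T_qi, T_si] M (Nat.sub (MG u) (Nat.mod (MG u) M)) (nat_lit 40) z1 u (Nat.mod (MG u) M)) (mRel MG [T_pi, T_q, T_q, T_r, T_pi, T_q, T_q, T_r] [] M (Nat.sub (MG u)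 (Nat.mod (MG u) M)) (nat_lit 40) z1 u (Nat.mod (MG u) M)) (Nat.ble (nat_lit 317) j)) (Nat.ble (nat_lit 316) j)) (Nat.ble (nat_lit 315) j)) (Bool.rec (motive := fun _ => Bool) (Bool.rec (motive := fun _ => Bool) (mRel MG [T_p, T_u, T_q, T_u, T_qi, T_u] [T_u, T_qi, T_r, T_pi, T_pi, T_u, T_p] M (Nat.sub (MG u) (Nat.mod (MG u) M)) (nat_lit 40) z1 u (Nat.mod (MG u) M)) (Bool.rec (motive := fun _ => Bool) (mRel MG [T_si] [T_qi, T_ri, T_s, T_ri, T_p, T_qi, T_p] M (Nat.sub (MG u) (Nat.mod (MG u) M)) (nat_lit 40) z1 u (Nat.mod (MG u) M)) (mRel MG [T_q, T_si, T_p] [T_si, T_qi, T_qi, T_r] M (Nat.sub (MG u) (Nat.mod (MG u) M)) (nat_lit 40) z1 u (Nat.mod (MG u) M)) (Nat.ble (nat_lit 320) j)) (Nat.ble (nat_lit 319) j)) (Bool.rec (motive := fun _ => Bool) (mRel MG [T_qi, T_r, T_pi] [T_q, T_s, T_q, T_si] M (Nat.sub (MG u) (Nat.mod (MG u) M)) (nat_lit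 40) z1 u (Nat.mod (MG u) M)) (Bool.rec (motive := fun _ => Bool) (mRel MG [T_r, T_pi] [T_q, T_u, T_p, T_u, T_q, T_u, T_qi, T_u, T_pi, T_u, T_p] M (Nat.sub (MG u) (Nat.mod (MG u) M)) (nat_lit 40) z1 u (Nat.mod (MG u) M)) (mRel MG [T_pi, T_qi] [T_q, T_u, T_r, T_s, T_pi, T_si, T_qi, T_ri, T_u, T_qi, T_ri] M (Nat.sub (MG u) (Nat.mod (MG u) M)) (nat_lit 40) z1 u (Nat.mod (MG u) M)) (Nat.ble (nat_lit 323) j)) (Nat.ble (nat_lit 322) j)) (Nat.ble (nat_lit 321) j)) (Nat.ble (nat_lit 318) j)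
noncomputable def dM_57 (j z1 z2 u : ℕ) : Bool :=
  Bool.rec (motive := fun _ => Bool) (dM_55 j z1 z2 u) (dM_56 j z1 z2 u) (Nat.ble (nat_lit 313) j)
noncomputable def dM_58 (j z1 z2 u : ℕ) : Bool :=
  Bool.rec (motive := fun _ => Bool) (Bool.rec (motive := fun _ => Bool) (Bool.rec (motive := fun _ => Bool) (mRel MG [T_pi, T_pi, T_r, T_pi, T_pi] [T_qi, T_s, T_qi] M (Nat.sub (MG u) (Nat.mod (MG u) M)) (nat_lit 40) z1 u (Nat.mod (MG u) M)) (mRel MG [T_q, T_s, T_p, T_si, T_ri, T_u, T_qi, T_pi, T_qi, T_r, T_q, T_u] [T_ri] M (Nat.sub (MG u) (Nat.mod (MG u) M)) (nat_lit 40) z1 u (Nat.mod (MG u) M)) (Nat.ble (nat_lit 325) j)) (Bool.rec (motive := fun _ => Bool) (mRel MG [T_ri, T_q] [T_pi, T_s, T_qi, T_si, T_qi] M (Nat.sub (MG u) (Nat.mod (MG u) M)) (nat_lit 40) z1 u (Nat.mod (MG u) M)) (Bool.rec (motive := fun _ => Bool) (mRel MG [T_q, T_si,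 T_qi, T_si, T_si, T_p] [T_r] M (Nat.sub (MG u) (Nat.mod (MG u) M)) (nat_lit 40) z1 u (Nat.mod (MG u) M)) (mRel MG [T_q, T_pi, T_r] [T_p, T_s, T_qi, T_ri, T_s] M (Nat.sub (MG u) (Nat.mod (MG u) M)) (nat_lit 40) z1 u (Nat.mod (MG u) M)) (Nat.ble (nat_lit 328) j)) (Nat.ble (nat_lit 327) j)) (Nat.ble (nat_lit 326) j)) (Bool.rec (motive := fun _ => Bool) (Bool.rec (motive := fun _ => Bool) (mRel MG [T_q, T_si, T_qi, T_si, T_si, T_p, T_ri] [] M (Nat.sub (MG u) (Nat.mod (MG u) M)) (nat_lit 40) z1 u (Nat.mod (MG u) M)) (Bool.rec (motive := fun _ => Bool) (mRel MG [T_q, T_u, T_p, T_qi, T_si] [T_p, T_p, T_q, T_r, T_s, T_pi, T_pi, T_q, T_u] M (Nat.sub (MG u) (Nat.mod (MG u) M)) (nat_lit 40) z1 u (Nat.mod (MG u) M)) (mRel MG [T_p, T_q, T_u, T_r, T_s, T_pi, T_si, T_qi, T_ri, T_u, T_qi] [T_qi, T_r] M (Nat.sub (MG u) (Nat.mod (MG u) M)) (nat_lit 40)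 z1 u (Nat.mod (MG u) M)) (Nat.ble (nat_lit 331) j)) (Nat.ble (nat_lit 330) j)) (Bool.rec (motive := fun _ => Bool) (mRel MG [T_pi, T_pi] [T_qi, T_r, T_pi, T_pi, T_qi, T_r] M (Nat.sub (MG u) (Nat.mod (MG u) M)) (nat_lit 40) z1 u (Nat.mod (MG u) M)) (Bool.rec (motive := fun _ => Bool) (mRel MG [T_ri, T_s, T_ri, T_p] [T_q, T_si, T_pi, T_q] M (Nat.sub (MG u) (Nat.mod (MG u) M)) (nat_lit 40) z1 u (Nat.mod (MG u) M)) (mRel MG [T_r, T_pi, T_s, T_s] [T_q, T_si, T_qi] M (Nat.sub (MG u) (Nat.mod (MG u) M)) (nat_lit 40) z1 u (Nat.mod (MG u) M)) (Nat.ble (nat_lit 334) j)) (Nat.ble (nat_lit 333) j)) (Nat.ble (nat_lit 332) j)) (Nat.ble (nat_lit 329) j)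
noncomputable def dM_59 (j z1 z2 u : ℕ) : Bool :=
  Bool.rec (motive := fun _ => Bool) (Bool.rec (motive := fun _ => Bool) (Bool.rec (motive := fun _ => Bool) (mRel MG [T_ri, T_q, T_si] [T_pi, T_s, T_s, T_q] M (Nat.sub (MG u) (Nat.mod (MG u) M)) (nat_lit 40) z1 u (Nat.mod (MG u) M)) (mRel MG [T_si, T_q, T_si] [T_qi, T_s, T_qi] M (Nat.sub (MG u) (Nat.mod (MG u) M)) (nat_lit 40) z1 u (Nat.mod (MG u) M)) (Nat.ble (nat_lit 336) j)) (Bool.rec (motive := fun _ => Bool) (mRel MG [T_p, T_ri, T_qi] [T_q, T_q, T_r, T_pi, T_q] M (Nat.sub (MG u) (Nat.mod (MG u) M)) (nat_lit 40) z1 u (Nat.mod (MG u) M)) (Bool.rec (motive := fun _ => Bool) (mRel MG [T_p] [T_pi, T_q, T_si, T_q, T_pi, T_pi, T_r] M (Nat.sub (MG u) (Nat.mod (MG u) M)) (nat_lit 40) z1 u (Nat.mod (MG u) M)) (mRel MG [T_q] [T_p, T_p, T_ri, T_p, T_p, T_qi, T_s] M (Nat.sub (MG u) (Nat.mod (MG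 u) M)) (nat_lit 40) z1 u (Nat.mod (MG u) M)) (Nat.ble (nat_lit 339) j)) (Nat.ble (nat_lit 338) j)) (Nat.ble (nat_lit 337) j)) (Bool.rec (motive := fun _ => Bool) (Bool.rec (motive := fun _ => Bool) (mRel MG [T_r, T_pi, T_q] [T_qi, T_qi, T_p, T_ri, T_qi] M (Nat.sub (MG u) (Nat.mod (MG u) M)) (nat_lit 40) z1 u (Nat.mod (MG u) M)) (Bool.rec (motive := fun _ => Bool) (mRel MG [T_s, T_qi, T_r, T_pi] [T_qi, T_si, T_si] M (Nat.sub (MG u) (Nat.mod (MG u) M)) (nat_lit 40) z1 u (Nat.mod (MG u) M)) (mRel MG [T_qi, T_p, T_p, T_si, T_ri, T_qi, T_pi, T_pi, T_q, T_u, T_p] [T_u, T_s, T_q] M (Nat.sub (MG u) (Nat.mod (MG u) M)) (nat_lit 40) z1 u (Nat.mod (MG u) M)) (Nat.ble (nat_lit 342) j)) (Nat.ble (nat_lit 341) j)) (Bool.rec (motive := fun _ => Bool) (mRel MG [T_pi, T_pi, T_u, T_p, T_u, T_q, T_u, T_qi, T_u, T_pi] [T_ri, T_q, T_u] M (Nat.sub (MG u) (Nat.mod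 (MG u) M)) (nat_lit 40) z1 u (Nat.mod (MG u) M)) (Bool.rec (motive := fun _ => Bool) (mRel MG [T_ri, T_q, T_p] [T_pi, T_pi, T_qi, T_r, T_pi] M (Nat.sub (MG u) (Nat.mod (MG u) M)) (nat_lit 40) z1 u (Nat.mod (MG u) M)) (mRel MG [T_p, T_p] [T_u, T_p, T_u, T_q, T_u, T_qi, T_u, T_pi, T_u, T_qi, T_r] M (Nat.sub (MG u) (Nat.mod (MG u) M)) (nat_lit 40) z1 u (Nat.mod (MG u) M)) (Nat.ble (nat_lit 345) j)) (Nat.ble (nat_lit 344) j)) (Nat.ble (nat_lit 343) j)) (Nat.ble (nat_lit 340) j)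
noncomputable def dM_60 (j z1 z2 u : ℕ) : Bool :=
  Bool.rec (motive := fun _ => Bool) (dM_58 j z1 z2 u) (dM_59 j z1 z2 u) (Nat.ble (nat_lit 335) j)
noncomputable def dM_61 (j z1 z2 u : ℕ) : Bool :=
  Bool.rec (motive := fun _ => Bool) (dM_57 j z1 z2 u) (dM_60 j z1 z2 u) (Nat.ble (nat_lit 324) j)
noncomputable def dM_62 (j z1 z2 u : ℕ) : Bool :=
  Bool.rec (motive := fun _ => Bool) (dM_54 j z1 z2 u) (dM_61 j z1 z2 u) (Nat.ble (nat_lit 302) j)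
noncomputable def dM_63 (j z1 z2 u : ℕ) : Bool :=
  Bool.rec (motive := fun _ => Bool) (dM_47 j z1 z2 u) (dM_62 j z1 z2 u) (Nat.ble (nat_lit 258) j)
noncomputable def dM_64 (j z1 z2 u : ℕ) : Bool :=
  Bool.rec (motive := fun _ => Bool) (dM_32 j z1 z2 u) (dM_63 j z1 z2 u) (Nat.ble (nat_lit 170) j)
noncomputable def dM_65 (j z1 z2 u : ℕ) : Bool :=
  Bool.rec (motive := fun _ => Bool) (dM_11 j z1 z2 u) (dM_64 j z1 z2 u) (Nat.ble (nat_lit 52) j)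
noncomputable def dM_66 (j z1 z2 u : ℕ) : Bool :=
  Bool.rec (motive := fun _ => Bool) (dM_0 j z1 z2 u) (dM_65 j z1 z2 u) (Nat.ble (nat_lit 6) j)
noncomputable def chkM (u : ℕ) : Bool :=
  Bool.rec (motive := fun _ => Bool) (band (Nat.ble (Nat.succ (Nat.mod (MG u) M)) u) (dM_66 (Nat.land (MR u) (nat_lit 511)) (Nat.land (Nat.shiftRight (MR u) (nat_lit 9)) (nat_lit 2047)) (Nat.shiftRight (MR u) (nat_lit 20)) u)) true (Nat.ble A (MG u))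
noncomputable def chkN (u : ℕ) : Bool :=
  band (chk_p (Nat.land (Nat.shiftRight (RS u) (nat_lit 0)) (nat_lit 63)) u) (band (chk_pi (Nat.land (Nat.shiftRight (RS u) (nat_lit 6)) (nat_lit 63)) u) (band (chk_q (Nat.land (Nat.shiftRight (RS u) (nat_lit 12)) (nat_lit 63)) u) (band (chk_qi (Nat.land (Nat.shiftRight (RS u) (nat_lit 18)) (nat_lit 63)) u) (band (chk_r (Nat.land (Nat.shiftRight (RS u) (nat_lit 24)) (nat_lit 63)) u) (band (chk_ri (Nat.land (Nat.shiftRight (RS u) (nat_lit 30)) (nat_lit 63)) u) (band (chk_s (Nat.land (Nat.shiftRight (RS u) (nat_lit 36)) (nat_lit 63)) u) (band (chk_si (Nat.land (Nat.shiftRight (RS u) (nat_lit 42)) (nat_lit 63)) u) (band (chk_u (Nat.land (Nat.shiftRight (RS u) (nat_lit 48)) (nat_lit 63)) u) (chkM u)))))))))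
noncomputable def chkP (u : ℕ) : Bool := Bool.rec (motive := fun _ => Bool) (chkN u) true (Nat.ble M u)
noncomputable def liveP (u : ℕ) : Bool := Bool.rec (motive := fun _ => Bool) (Nat.ble A (MG u)) false (Nat.ble M u)
end H64.TCMCB
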